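import Cfsg.Agent.Lib.TensorPowerMax.Side
import Cfsg.Agent.Lib.TensorMax.FullAlgebra

/-!
Pure tensors of matrices and vectors on a tensor power indexed by functions `ι → Fin m`, the permutations
of the factors, and the splitting off of one factor.
-/

set_option autoImplicit false
set_option linter.unusedSectionVars false

namespace Cfsg.Agent.Lib.TensorPowerMax.Basic

open Matrix Kronecker
open Cfsg.Agent.Lib.Subspaces.Transvection Cfsg.Agent.Lib.Subspaces.FormVec

variable {ι : Type} [Fintype ι] [DecidableEq ι] {m : ℕ} {F : Type*} [Field F]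

local notation "A1" => Matrix (Fin m) (Fin m) F
local notation "Big" => Matrix (ι → Fin m) (ι → Fin m) F
local notation "GG" => GL (ι → Fin m) F
local notation "W1" => Fin m → F

/-! ### pure tensors and permutations -/

/-- The tensor product of a family of matrices. -/
def pt (a : ι → Matrix (Fin m) (Fin m) F) : Matrix (ι → Fin m) (ι → Fin m) F :=
  Matrix.of fun x y => ∏ i, a i (x i) (y i)

/-- The permutation of the factors. -/
def pm (σ : Equiv.Perm ι) : Matrix (ι → Fin m) (ι → Fin m) F :=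
  Matrix.of fun x y => if y = x ∘ σ then 1 else 0

/-- A pure tensor of vectors. -/
def pv (s : ι → Fin m → F) : (ι → Fin m) → F := fun x => ∏ i, s i (x i)

theorem pt_apply (a : ι → A1) (x y : ι → Fin m) : pt a x y = ∏ i, a i (x i) (y i) := rfl

theorem pm_apply (σ : Equiv.Perm ι) (x y : ι → Fin m) : pm (F := F) σ x y = if y = x ∘ σ then 1 else 0 := rfl

theorem pt_mul (a b : ι → A1) : pt a * pt b = pt (a * b) := by
  ext x y
  simp only [Matrix.mul_apply, pt_apply, Pi.mul_apply, ← Finset.prod_mul_distrib]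
  exact (Fintype.prod_sum fun i z => a i (x i) z * b i z (y i)).symm

theorem pt_one : pt (1 : ι → A1) = 1 := by
  ext x y
  simp only [pt_apply, Pi.one_apply, Matrix.one_apply]
  split_ifs with h
  · subst h; simp
  · obtain ⟨i, hi⟩ := Function.ne_iff.1 h
    exact Finset.prod_eq_zero (Finset.mem_univ i) (by simp [hi])

theorem pm_mul (σ τ : Equiv.Perm ι) : pm (F := F) (m := m) σ * pm τ = pm (σ * τ) := by
  ext x y
  simp only [Matrix.mul_apply, pm_apply, ite_mul, one_mul, zero_mul, Finset.sum_ite_eq', Finset.mem_univ,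
    if_true, Equiv.Perm.coe_mul, Function.comp_assoc]
  congr 1

theorem pm_one : pm (F := F) (m := m) (1 : Equiv.Perm ι) = 1 := by
  ext x y
  simp [pm_apply, Matrix.one_apply, eq_comm]

theorem pm_mul_pt (σ : Equiv.Perm ι) (a : ι → A1) : pm σ * pt a = pt (a ∘ σ.symm) * pm σ := by
  ext x y
  have e : ∀ z : ι → Fin m, y = z ∘ σ ↔ z = y ∘ σ.symm := fun z =>
    ⟨fun h => by rw [h]; ext; simp, fun h => by rw [h]; ext; simp⟩
  simp only [Matrix.mul_apply, pm_apply, pt_apply, ite_mul, one_mul, zero_mul, mul_ite, mul_one, mul_zero,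
    Finset.sum_ite_eq', Finset.mem_univ, if_true, e, Function.comp_apply]
  exact Fintype.prod_equiv σ _ _ fun i => by simp

theorem pt_update_add (a : ι → A1) (j : ι) (D E : A1) :
    pt (Function.update a j (D + E)) = pt (Function.update a j D) + pt (Function.update a j E) := by
  ext x y
  simp only [pt_apply, Matrix.add_apply, ← Finset.mul_prod_erase Finset.univ _ (Finset.mem_univ j),
    Function.update_self, add_mul]
  congr 2 <;> exact Finset.prod_congr rfl fun i hi => by
    simp [Function.update_of_ne (Finset.ne_of_mem_erase hi)]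

theorem pt_update_smul (a : ι → A1) (j : ι) (c : F) (D : A1) :
    pt (Function.update a j (c • D)) = c • pt (Function.update a j D) := by
  ext x y
  simp only [pt_apply, Matrix.smul_apply, ← Finset.mul_prod_erase Finset.univ _ (Finset.mem_univ j),
    Function.update_self, smul_eq_mul, mul_assoc]
  exact congrArg (fun z => c * (D (x j) (y j) * z)) (Finset.prod_congr rfl fun i hi => by
    simp [Function.update_of_ne (Finset.ne_of_mem_erase hi)])

theorem pt_single (x y : ι → Fin m) :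
    pt (fun i => Matrix.single (x i) (y i) (1 : F)) = Matrix.single x y 1 := by
  ext u v
  simp only [pt_apply, Matrix.single_apply]
  split_ifs with h
  · obtain ⟨rfl, rfl⟩ := h; simp
  · rw [not_and_or] at h
    rcases h with h | h <;> obtain ⟨i, hi⟩ := Function.ne_iff.1 h <;>
      exact Finset.prod_eq_zero (Finset.mem_univ i) (by simp [hi])

/-- A matrix acting on one factor. -/
def oneM (j : ι) (D : Matrix (Fin m) (Fin m) F) : Matrix (ι → Fin m) (ι → Fin m) F :=
  pt (Function.update 1 j D)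

theorem oneM_mul (j : ι) (D E : A1) : oneM j D * oneM j E = oneM j (D * E) := by
  rw [oneM, oneM, oneM, pt_mul, ← Function.update_mul, one_mul]

theorem oneM_one (j : ι) : oneM j (1 : A1) = 1 := by
  rw [oneM, show Function.update (1 : ι → A1) j 1 = 1 from Function.update_eq_self _ _, pt_one]

theorem oneM_add (j : ι) (D E : A1) : oneM j (D + E) = oneM j D + oneM j E := pt_update_add _ _ _ _

theorem oneM_smul (j : ι) (c : F) (D : A1) : oneM j (c • D) = c • oneM j D := pt_update_smul _ _ _ _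

theorem oneM_zero (j : ι) : oneM j (0 : A1) = 0 := by
  have h := oneM_smul j (0 : F) (0 : A1)
  rwa [zero_smul, zero_smul] at h

theorem pm_mul_oneM (σ : Equiv.Perm ι) (j : ι) (D : A1) : pm σ * oneM j D = oneM (σ j) D * pm σ := by
  rw [oneM, pm_mul_pt, oneM]
  congr 2
  ext1 i
  simp only [Function.comp_apply, Function.update_apply, Pi.one_apply, Equiv.symm_apply_eq]

/-- The tensor product of invertible matrices. -/
def ptGL : (ι → GL (Fin m) F) →* GL (ι → Fin m) F :=
  (Units.map ({ toFun := pt, map_one' := pt_one, map_mul' := fun a b => (pt_mul a b).symm } :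
    (ι → Matrix (Fin m) (Fin m) F) →* Matrix (ι → Fin m) (ι → Fin m) F)).comp
    (MulEquiv.piUnits (M := fun _ : ι => Matrix (Fin m) (Fin m) F)).symm.toMonoidHom

theorem coe_ptGL (a : ι → GL (Fin m) F) :
    (ptGL a : Big) = pt fun i => (a i : A1) := rfl

/-- The permutation matrices of the factors. -/
def pmGL : Equiv.Perm ι →* GL (ι → Fin m) F :=
  ({ toFun := pm, map_one' := pm_one, map_mul' := fun a b => (pm_mul a b).symm } :
    Equiv.Perm ι →* Matrix (ι → Fin m) (ι → Fin m) F).toHomUnits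

theorem coe_pmGL (σ : Equiv.Perm ι) : (pmGL σ : GG).val = pm σ := rfl

/-- One invertible matrix on one factor. -/
def oneGL (j : ι) (b : GL (Fin m) F) : GL (ι → Fin m) F := ptGL (Function.update 1 j b)

theorem coe_oneGL (j : ι) (b : GL (Fin m) F) : (oneGL j b : Big) = oneM j (b : A1) := by
  rw [oneGL, coe_ptGL, oneM]
  congr 1
  ext1 i
  by_cases h : i = j <;> simp [Function.update_apply, h]

theorem pmGL_mul_ptGL (σ : Equiv.Perm ι) (a : ι → GL (Fin m) F) :
    pmGL σ * ptGL a = ptGL (a ∘ σ.symm) * pmGL σ :=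
  Units.ext (by rw [Units.val_mul, Units.val_mul, coe_ptGL, coe_ptGL, coe_pmGL]; exact pm_mul_pt _ _)

theorem tw_mul (a b : ι → GL (Fin m) F) (σ τ : Equiv.Perm ι) :
    ptGL a * pmGL σ * (ptGL b * pmGL τ) = ptGL (a * b ∘ σ.symm) * pmGL (σ * τ) := by
  rw [mul_assoc, ← mul_assoc (pmGL σ), pmGL_mul_ptGL, map_mul, map_mul]
  simp only [mul_assoc]

/-- The stabiliser of the decomposition. -/
def stab (ι : Type) [Fintype ι] [DecidableEq ι] (m : ℕ) (F : Type*) [Field F] : Subgroup (GL (ι → Fin m) F) where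
  carrier := {g | ∃ (a : ι → GL (Fin m) F) (σ : Equiv.Perm ι), g = ptGL a * pmGL σ}
  one_mem' := ⟨1, 1, by rw [map_one, map_one, mul_one]⟩
  mul_mem' := by
    rintro _ _ ⟨a, σ, rfl⟩ ⟨b, τ, rfl⟩
    exact ⟨_, _, tw_mul a b σ τ⟩
  inv_mem' := by
    rintro _ ⟨a, σ, rfl⟩
    refine ⟨a⁻¹ ∘ σ, σ⁻¹, ?_⟩
    rw [_root_.mul_inv_rev, ← map_inv, ← map_inv, pmGL_mul_ptGL, Equiv.Perm.inv_def, Equiv.symm_symm]

theorem stab_eq {t : ℕ} : Cfsg.Geo.tensorWreathStandard m t F = stab (Fin t) m F := by
  refine le_antisymm ((Subgroup.closure_le _).2 ?_) ?_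
  · rintro g (⟨a, ha⟩ | ⟨σ, hσ⟩)
    · exact ⟨a, 1, by rw [map_one, mul_one]; exact Units.ext (Matrix.ext ha)⟩
    · exact ⟨1, σ, by rw [map_one, one_mul]; exact Units.ext (Matrix.ext hσ)⟩
  · rintro _ ⟨a, σ, rfl⟩
    exact mul_mem (Subgroup.subset_closure (Or.inl ⟨a, fun _ _ => rfl⟩))
      (Subgroup.subset_closure (Or.inr ⟨σ, fun _ _ => rfl⟩))

theorem ptGL_mem_stab (a : ι → GL (Fin m) F) : ptGL a ∈ stab ι m F := ⟨a, 1, by rw [map_one, mul_one]⟩

theorem pmGL_mem_stab (σ : Equiv.Perm ι) : pmGL σ ∈ stab ι m F := ⟨1, σ, by rw [map_one, one_mul]⟩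

theorem oneGL_mem_stab (j : ι) (b : GL (Fin m) F) : oneGL j b ∈ stab ι m F := ptGL_mem_stab _

/-! ### vectors -/

theorem pt_mulVec (a : ι → A1) (s : ι → W1) : pt a *ᵥ pv s = pv fun i => a i *ᵥ s i := by
  ext x
  simp only [Matrix.mulVec, dotProduct, pt_apply, pv, ← Finset.prod_mul_distrib]
  exact (Fintype.prod_sum fun i z => a i (x i) z * s i z).symm

theorem pm_mulVec (σ : Equiv.Perm ι) (s : ι → W1) : pm σ *ᵥ pv s = pv (s ∘ σ.symm) := by
  ext x
  simp only [Matrix.mulVec, dotProduct, pm_apply, ite_mul, one_mul, zero_mul, Finset.sum_ite_eq',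
    Finset.mem_univ, if_true, pv, Function.comp_apply]
  exact Fintype.prod_equiv σ _ _ fun i => by simp

theorem tw_mulVec (a : ι → GL (Fin m) F) (σ : Equiv.Perm ι) (s : ι → W1) :
    ((ptGL a * pmGL σ : GG) : Big) *ᵥ pv s = pv fun i => (a i : A1) *ᵥ s (σ.symm i) := by
  rw [gl_mul_mulVec, coe_pmGL, coe_ptGL, pm_mulVec, pt_mulVec]
  rfl

theorem pv_dot (ψ s : ι → W1) : pv ψ ⬝ᵥ pv s = ∏ i, ψ i ⬝ᵥ s i := by
  simp only [dotProduct, pv, ← Finset.prod_mul_distrib]
  exact (Fintype.prod_sum fun i z => ψ i z * s i z).symm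

theorem pv_single (y : ι → Fin m) : pv (fun i => Pi.single (y i) (1 : F)) = Pi.single y 1 := by
  ext x
  simp only [pv, Pi.single_apply]
  split_ifs with h
  · subst h; simp
  · obtain ⟨i, hi⟩ := Function.ne_iff.1 h
    exact Finset.prod_eq_zero (Finset.mem_univ i) (by simp [hi])

theorem ext_pv {X Y : Big} (h : ∀ s : ι → W1, X *ᵥ pv s = Y *ᵥ pv s) : X = Y := by
  ext x y
  have h1 := congrFun (h fun i => Pi.single (y i) 1) x
  rwa [pv_single, mulVec_single_one, mulVec_single_one] at h1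

theorem pv_ne_zero {s : ι → W1} (h : ∀ i, s i ≠ 0) : pv s ≠ 0 := by
  choose ψ hψ using fun i => exists_dot_eq_one (h i)
  intro e
  have h1 := pv_dot ψ s
  rw [e, dotProduct_zero, Finset.prod_eq_one fun i _ => hψ i] at h1
  exact zero_ne_one h1

theorem mem_span_of_orth {r s : W1} (h : ∀ ψ : W1, ψ ⬝ᵥ s = 0 → ψ ⬝ᵥ r = 0) : r ∈ Submodule.span F {s} := by
  by_contra hr
  obtain ⟨ψ, hψ, hψr⟩ := exists_functional hr
  exact one_ne_zero (hψr.symm.trans (h ψ (hψ s (Submodule.mem_span_singleton_self s))))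

theorem prod_update (f : ι → F) (k : ι) (c : F) :
    ∏ i, Function.update f k c i = c * ∏ i ∈ Finset.univ.erase k, f i := by
  rw [← Finset.mul_prod_erase Finset.univ _ (Finset.mem_univ k), Function.update_self]
  exact congrArg _ (Finset.prod_congr rfl fun i hi => Function.update_of_ne (Finset.ne_of_mem_erase hi) _ _)

theorem prod_dot_update (ψ r : ι → W1) (k : ι) (θ : W1) :
    ∏ i, Function.update ψ k θ i ⬝ᵥ r i = (θ ⬝ᵥ r k) * ∏ i ∈ Finset.univ.erase k, ψ i ⬝ᵥ r i := by
  rw [← prod_update]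
  exact Finset.prod_congr rfl fun i _ => by by_cases h : i = k <;> simp [Function.update_apply, h]

/-- Two pure tensors agreeing modulo the block of `w` at `j` have parallel factors elsewhere. -/
theorem parallel_of_mod {j : ι} {w : W1} {r s : ι → W1} (hs : ∀ i, s i ≠ 0)
    (hsj : s j ∉ Submodule.span F {w})
    (h : ∀ ψ : ι → W1, ψ j ⬝ᵥ w = 0 → ∏ i, ψ i ⬝ᵥ r i = ∏ i, ψ i ⬝ᵥ s i) :
    ∀ k, k ≠ j → r k ∈ Submodule.span F {s k} := by
  intro k hk
  obtain ⟨η, hη, hηs⟩ := exists_functional hsj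
  choose ψ0 hψ0 using fun i => exists_dot_eq_one (hs i)
  set ψ := Function.update ψ0 j η
  have hψj : ψ j ⬝ᵥ w = 0 := by
    simp only [ψ, Function.update_self]; exact hη w (Submodule.mem_span_singleton_self w)
  have hψs : ∀ i, ψ i ⬝ᵥ s i = 1 := fun i => by
    by_cases hi : i = j
    · subst hi; simp [ψ, hηs]
    · simp [ψ, Function.update_of_ne hi, hψ0]
  have h1 := h ψ hψj
  rw [Finset.prod_eq_one fun i _ => hψs i] at h1
  refine mem_span_of_orth fun θ hθ => ?_
  have h2 := h (Function.update ψ k θ) (by rw [Function.update_of_ne hk.symm]; exact hψj)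
  rw [prod_dot_update, prod_dot_update, hθ, zero_mul, mul_eq_zero] at h2
  refine h2.resolve_right fun e => ?_
  rw [← Finset.mul_prod_erase Finset.univ _ (Finset.mem_univ k), e, mul_zero] at h1
  exact zero_ne_one h1

/-- A combination of two pure tensors differing in two factors is not pure. -/
theorem not_pure_of_two {u w r : ι → W1} {c₁ c₂ : F} (h₁ : c₁ ≠ 0) (h₂ : c₂ ≠ 0)
    (h : c₁ • pv u + c₂ • pv w = pv r) (hu : ∀ i, u i ≠ 0) (hw : ∀ i, w i ≠ 0) {i j : ι} (hij : i ≠ j)
    (hi : w i ∉ Submodule.span F {u i}) (hi' : u i ∉ Submodule.span F {w i})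
    (hj : w j ∉ Submodule.span F {u j}) : False := by
  have key : ∀ {u w : ι → W1} {c₁ c₂ : F}, c₂ ≠ 0 → c₁ • pv u + c₂ • pv w = pv r → (∀ i, w i ≠ 0) →
      w i ∉ Submodule.span F {u i} → r j ∈ Submodule.span F {w j} ∧ r j ≠ 0 := by
    intro u w c₁ c₂ h₂ h hw hi
    obtain ⟨η, hη, hηw⟩ := exists_functional hi
    choose ψ0 hψ0 using fun i => exists_dot_eq_one (hw i)
    set ψ := Function.update ψ0 i η
    have hψw : ∀ k, ψ k ⬝ᵥ w k = 1 := fun k => by
      by_cases hk : k = i
      · subst hk; simp [ψ, hηw]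
      · simp [ψ, Function.update_of_ne hk, hψ0]
    have hd : ∀ θ : W1, c₂ * (θ ⬝ᵥ w j) = (θ ⬝ᵥ r j) * ∏ k ∈ Finset.univ.erase j, ψ k ⬝ᵥ r k := by
      intro θ
      have h3 := congrArg (fun z => pv (Function.update ψ j θ) ⬝ᵥ z) h
      simp only [dotProduct_add, dotProduct_smul, pv_dot, smul_eq_mul] at h3
      rw [prod_dot_update, prod_dot_update, prod_dot_update,
        Finset.prod_eq_one (s := Finset.univ.erase j) (f := fun k => ψ k ⬝ᵥ w k) fun k _ => hψw k, mul_one] at h3
      rw [← h3, Finset.prod_eq_zero (Finset.mem_erase.2 ⟨hij, Finset.mem_univ i⟩)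
        (show ψ i ⬝ᵥ u i = 0 by simp [ψ, hη _ (Submodule.mem_span_singleton_self (u i))]), mul_zero, mul_zero,
        zero_add]
    set C := ∏ k ∈ Finset.univ.erase j, ψ k ⬝ᵥ r k
    obtain ⟨θ, hθ⟩ := exists_dot_eq_one (hw j)
    have hC : (θ ⬝ᵥ r j) * C ≠ 0 := by rw [← hd, hθ, mul_one]; exact h₂
    refine ⟨mem_span_of_orth fun φ hφ => ?_, fun e => left_ne_zero_of_mul hC (by rw [e, dotProduct_zero])⟩
    have := hd φ
    rw [hφ, mul_zero, eq_comm, mul_eq_zero] at this
    exact this.resolve_right (right_ne_zero_of_mul hC)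
  obtain ⟨h3, h3'⟩ := key h₂ h hw hi
  obtain ⟨h4, -⟩ := key (u := w) (w := u) h₁ ((add_comm _ _).trans h) hu hi'
  obtain ⟨a, ha⟩ := Submodule.mem_span_singleton.1 h3
  obtain ⟨b, hb⟩ := Submodule.mem_span_singleton.1 h4
  have ha0 : a ≠ 0 := fun e => h3' (by rw [← ha, e, zero_smul])
  exact hj (Submodule.mem_span_singleton.2 ⟨a⁻¹ * b, by rw [← smul_smul, hb, ← ha, inv_smul_smul₀ ha0]⟩)

theorem gl_ne_zero (b : GL (Fin m) F) {u : W1} (hu : u ≠ 0) : (b : A1) *ᵥ u ≠ 0 := fun e =>
  hu (gl_mulVec_injective b (e.trans (mulVec_zero _).symm))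

theorem scalar_factor {a : ι → GL (Fin m) F} {c : F} (hc : pt (fun i => (a i : A1)) = c • 1) (i : ι) :
    ∃ d : F, (a i : A1) = d • 1 := by
  by_contra hn
  push Not at hn
  have key : ∀ u : W1, (a i : A1) *ᵥ u ∈ Submodule.span F {u} := by
    intro u
    by_cases hu : u = 0
    · subst hu; rw [mulVec_zero]; exact Submodule.zero_mem _
    refine mem_span_of_orth fun η hη => ?_
    set s : ι → W1 := fun _ => u
    have hne : ∀ k, (a k : A1) *ᵥ s k ≠ 0 := fun k => gl_ne_zero _ hu
    choose ψ0 hψ0 using fun k => exists_dot_eq_one (hne k)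
    have h := congrArg (fun Z : Big => pv (Function.update ψ0 i η) ⬝ᵥ Z *ᵥ pv s) hc
    simp only [pt_mulVec, smul_mulVec, one_mulVec, dotProduct_smul, pv_dot] at h
    rw [prod_dot_update, prod_dot_update, hη, zero_mul, smul_zero,
      Finset.prod_eq_one (s := Finset.univ.erase i) fun k _ => hψ0 k, mul_one] at h
    exact h
  obtain ⟨u, hu⟩ := exists_not_eigen' hn
  exact hu (key u)
where
  exists_not_eigen' {A : A1} (h : ∀ c : F, A ≠ c • 1) : ∃ a, A *ᵥ a ∉ Submodule.span F {a} :=
    Cfsg.Agent.Lib.TensorMax.FullAlgebra.exists_not_eigen h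

/-! ### splitting off a factor -/

/-- Splitting off the factor `j`. -/
def split (j : ι) : (ι → Fin m) ≃ ({i // i ≠ j} → Fin m) × Fin m where
  toFun x := (fun i => x i.1, x j)
  invFun p := fun i => if h : i = j then p.2 else p.1 ⟨i, h⟩
  left_inv x := by ext i; by_cases h : i = j <;> simp [h]
  right_inv p := by
    refine Prod.ext (funext fun i => ?_) ?_
    · simp [i.2]
    · simp

theorem split_symm_self (j : ι) (p : ({i // i ≠ j} → Fin m) × Fin m) : (split j).symm p j = p.2 := by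
  simp [split]

theorem split_symm_of_ne (j : ι) (p : ({i // i ≠ j} → Fin m) × Fin m) {i : ι} (h : i ≠ j) :
    (split j).symm p i = p.1 ⟨i, h⟩ := by
  simp [split, h]

theorem prod_split {β : Type*} [CommMonoid β] (j : ι) (f : ι → β) :
    ∏ i, f i = (∏ i : {i // i ≠ j}, f i) * f j := by
  rw [← Finset.mul_prod_erase Finset.univ f (Finset.mem_univ j), mul_comm]
  exact congrArg (· * f j) (Finset.prod_subtype _ (by simp) f)

/-- The matrices seen with the factor `j` split off. -/
def sp (j : ι) : Matrix (ι → Fin m) (ι → Fin m) F ≃ₐ[F]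
    Matrix (({i // i ≠ j} → Fin m) × Fin m) (({i // i ≠ j} → Fin m) × Fin m) F :=
  Matrix.reindexAlgEquiv F F (split j)

/-- The invertible matrices seen with the factor `j` split off. -/
def spU (j : ι) : GL (ι → Fin m) F ≃* GL (({i // i ≠ j} → Fin m) × Fin m) F := Cfsg.Geo.glReindex (split j)

theorem sp_apply (j : ι) (X : Big) (p q : ({i // i ≠ j} → Fin m) × Fin m) :
    sp j X p q = X ((split j).symm p) ((split j).symm q) := rfl

theorem coe_spU (j : ι) (g : GG) : (spU j g).val = sp j (g : Big) := rfl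

theorem sp_pt (j : ι) (a : ι → A1) :
    sp j (pt a) = pt (fun i : {i // i ≠ j} => a i.1) ⊗ₖ a j := by
  ext p q
  rw [sp_apply, pt_apply, kroneckerMap_apply, pt_apply, prod_split j, split_symm_self, split_symm_self]
  exact congrArg (· * _) (Finset.prod_congr rfl fun i _ => by
    rw [split_symm_of_ne j p i.2, split_symm_of_ne j q i.2])

theorem sp_oneM_self (j : ι) (D : A1) : sp j (oneM j D) = (1 : Matrix ({i // i ≠ j} → Fin m) _ F) ⊗ₖ D := by
  rw [oneM, sp_pt, Function.update_self, ← pt_one]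
  congr 2
  ext1 i
  simp [Function.update_of_ne i.2]

theorem sp_oneM_of_ne {j i : ι} (h : i ≠ j) (D : A1) :
    sp j (oneM i D) = oneM (⟨i, h⟩ : {i // i ≠ j}) D ⊗ₖ (1 : A1) := by
  rw [oneM, sp_pt, oneM, Function.update_of_ne (Ne.symm h), Pi.one_apply]
  congr 2
  ext1 k
  by_cases hk : k.1 = i
  · simp [Function.update_apply, hk, show k = ⟨i, h⟩ from Subtype.ext hk]
  · simp [Function.update_apply, hk, show k ≠ ⟨i, h⟩ from fun e => hk (congrArg Subtype.val e)]

theorem sp_pm (j : ι) (σ : Equiv.Perm ι) (hσ : ∀ i, i ≠ j ↔ σ i ≠ j) :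
    sp j (pm (F := F) (m := m) σ) = pm (σ.subtypePerm fun i => (hσ i).symm) ⊗ₖ (1 : A1) := by
  have hj : σ j = j := by
    by_contra h
    exact ((hσ j).2 h) rfl
  ext p q
  rw [sp_apply, pm_apply, kroneckerMap_apply, pm_apply, Matrix.one_apply]
  have key : ((split j).symm q = (split j).symm p ∘ σ) ↔
      (q.1 = p.1 ∘ (σ.subtypePerm fun i => (hσ i).symm) ∧ p.2 = q.2) := by
    constructor
    · intro h
      refine ⟨funext fun i => ?_, ?_⟩
      · have h1 := congrFun h i.1
        rw [Function.comp_apply, split_symm_of_ne j q i.2, split_symm_of_ne j p ((hσ _).1 i.2)] at h1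
        exact h1
      · have h1 := congrFun h j
        rw [Function.comp_apply, hj, split_symm_self, split_symm_self] at h1
        exact h1.symm
    · rintro ⟨h1, h2⟩
      funext i
      by_cases hi : i = j
      · subst hi; rw [Function.comp_apply, hj, split_symm_self, split_symm_self, h2]
      · rw [Function.comp_apply, split_symm_of_ne j q hi, split_symm_of_ne j p ((hσ _).1 hi), h1]
        rfl
  simp only [key]
  split_ifs <;> simp_all

/-- A vector of the rest tensored with `w` at the factor `j`. -/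
def ins (j : ι) (w : Fin m → F) : (({i // i ≠ j} → Fin m) → F) →ₗ[F] ((ι → Fin m) → F) where
  toFun u := fun x => u (split j x).1 * w (x j)
  map_add' u v := by ext x; simp [add_mul]
  map_smul' c u := by ext x; simp [mul_assoc]

/-- Contraction of the factor `j`. -/
def ctr (j : ι) (φ : Fin m → F) : ((ι → Fin m) → F) →ₗ[F] (({i // i ≠ j} → Fin m) → F) where
  toFun z := fun r => ∑ a, φ a * z ((split j).symm (r, a))
  map_add' y z := by ext r; simp [mul_add, Finset.sum_add_distrib]
  map_smul' c z := by ext r; simp [Finset.mul_sum]; exact Finset.sum_congr rfl fun a _ => by ring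

/-- The block of `w` at the factor `j`. -/
def block (j : ι) (w : Fin m → F) : Submodule F ((ι → Fin m) → F) := LinearMap.range (ins j w)

theorem ctr_ins (j : ι) (φ w : W1) (u : ({i // i ≠ j} → Fin m) → F) : ctr j φ (ins j w u) = (φ ⬝ᵥ w) • u := by
  ext r
  simp only [ctr, ins, LinearMap.coe_mk, AddHom.coe_mk, Equiv.apply_symm_apply, split_symm_self, Pi.smul_apply,
    smul_eq_mul, dotProduct, Finset.sum_mul]
  exact Finset.sum_congr rfl fun a _ => by ring

theorem ins_smul (j : ι) (c : F) (w : W1) (u : ({i // i ≠ j} → Fin m) → F) :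
    ins j (c • w) u = c • ins j w u := by
  ext x
  simp [ins]; ring

theorem oneM_mulVec (j : ι) (v φ : W1) (z : (ι → Fin m) → F) :
    oneM j (vecMulVec v φ) *ᵥ z = ins j v (ctr j φ z) := by
  ext x
  have h1 : (oneM j (vecMulVec v φ) *ᵥ z) x =
      (sp j (oneM j (vecMulVec v φ)) *ᵥ (z ∘ (split j).symm)) (split j x) := by
    simp only [Matrix.mulVec, dotProduct, sp_apply, Function.comp_apply, Equiv.symm_apply_apply]
    exact Fintype.sum_equiv (split j) _ _ fun y => by simp only [Equiv.symm_apply_apply]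
  rw [h1, sp_oneM_self]
  show (Side.el (1 : Matrix ({i // i ≠ j} → Fin m) _ F) v φ *ᵥ (z ∘ (split j).symm)) (split j x) = _
  rw [Side.el_mulVec, one_mulVec]
  rfl

theorem ins_pv (j : ι) (s : ι → W1) : ins j (s j) (pv fun i : {i // i ≠ j} => s i.1) = pv s := by
  ext x
  show (∏ i : {i // i ≠ j}, s i.1 (x i.1)) * s j (x j) = _
  rw [pv, prod_split j]

theorem ctr_pv (j : ι) (φ : W1) (s : ι → W1) :
    ctr j φ (pv s) = (φ ⬝ᵥ s j) • pv fun i : {i // i ≠ j} => s i.1 := by
  rw [← ins_pv j s, ctr_ins]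

theorem ins_injective {j : ι} {w : W1} (hw : w ≠ 0) : Function.Injective (ins j w) := fun x y h => by
  obtain ⟨ψ, hψ⟩ := exists_dot_eq_one hw
  have h1 := congrArg (ctr j ψ) h
  rwa [ctr_ins, ctr_ins, hψ, one_smul, one_smul] at h1

theorem finrank_block {j : ι} {w : W1} (hw : w ≠ 0) :
    Module.finrank F (block j w) = m ^ (Fintype.card ι - 1) := by
  rw [block, LinearMap.finrank_range_of_inj (ins_injective hw), Module.finrank_fintype_fun_eq_card,
    Fintype.card_fun, Fintype.card_fin]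
  congr 1
  rw [Fintype.card_subtype_compl, Fintype.card_subtype_eq]

theorem ctr_ext {j : ι} {y z : (ι → Fin m) → F} (h : ∀ φ : W1, ctr j φ y = ctr j φ z) : y = z := by
  ext x
  have h1 := congrFun (h (Pi.single (x j) 1)) (split j x).1
  have e : (split j).symm ((split j x).1, x j) = x := (split j).symm_apply_apply x
  simpa [ctr, Pi.single_apply, e] using h1

/-- The vectors in the block are those killed by the functionals vanishing on `w`. -/
theorem mem_block_iff {j : ι} {w : W1} (hw : w ≠ 0) {z : (ι → Fin m) → F} :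
    z ∈ block j w ↔ ∀ φ : W1, φ ⬝ᵥ w = 0 → ctr j φ z = 0 := by
  constructor
  · rintro ⟨u, rfl⟩ φ hφ
    rw [ctr_ins, hφ, zero_smul]
  · intro h
    obtain ⟨ψ, hψ⟩ := exists_dot_eq_one hw
    refine ⟨ctr j ψ z, ctr_ext (j := j) fun φ => ?_⟩
    have h1 := h (φ - (φ ⬝ᵥ w) • ψ) (by rw [sub_dotProduct, smul_dotProduct, hψ, smul_eq_mul, mul_one, sub_self])
    rw [ctr_ins]
    ext r
    have h2 := congrFun h1 r
    simp only [ctr, LinearMap.coe_mk, AddHom.coe_mk, Pi.sub_apply, Pi.smul_apply, smul_eq_mul, sub_mul,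
      Finset.sum_sub_distrib, mul_assoc, ← Finset.mul_sum, Pi.zero_apply, sub_eq_zero] at h2
    exact h2.symm

theorem pv_mem_block {j : ι} {w : W1} {s : ι → W1} (hj : s j = w) : pv s ∈ block j w :=
  ⟨_, (congrArg (fun v => ins j v _) hj.symm).trans (ins_pv j s)⟩

end Cfsg.Agent.Lib.TensorPowerMax.Basic
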