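import Cfsg.Agent.Lib.TensorPowerMax.Basic

/-!
A matrix algebra on a tensor power normalised by the transvections of every factor, not scalar and
transitive on the factors, is everything.
-/

set_option autoImplicit false
set_option linter.unusedSectionVars false

namespace Cfsg.Agent.Lib.TensorPowerMax.AlgTop

open Matrix
open Cfsg.Agent.Lib.TensorPowerMax.Basic

variable {ι : Type} [Fintype ι] [DecidableEq ι] {m : ℕ} {F : Type*} [Field F]

local notation "A1" => Matrix (Fin m) (Fin m) F
local notation "Big" => Matrix (ι → Fin m) (ι → Fin m) F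

/-- A matrix unit at one factor. -/
def e (i : ι) (c d : Fin m) : Matrix (ι → Fin m) (ι → Fin m) F := oneM i (Matrix.single c d 1)

theorem e_mul (i : ι) (a b c d : Fin m) :
    e (F := F) i a b * e i c d = if b = c then e i a d else 0 := by
  rw [e, e, oneM_mul]
  by_cases h : b = c
  · subst h; rw [Matrix.single_mul_single_same, mul_one, if_pos rfl, e]
  · rw [Matrix.single_mul_single_of_ne _ _ _ _ h, oneM_zero, if_neg h]

theorem e_comm {i i' : ι} (h : i ≠ i') (D E : A1) : oneM i D * oneM i' E = oneM i' E * oneM i D := by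
  rw [oneM, oneM, pt_mul, pt_mul]
  congr 1
  ext1 k
  by_cases hk : k = i
  · subst hk; simp [Function.update_of_ne h]
  · simp [Function.update_of_ne hk]

theorem oneM_sum {α : Type*} (s : Finset α) (i : ι) (f : α → A1) :
    oneM i (∑ a ∈ s, f a) = ∑ a ∈ s, oneM i (f a) :=
  map_sum (AddMonoidHom.mk' (oneM (m := m) (F := F) i) (oneM_add i)) f s

theorem oneM_eq_sum (i : ι) (D : A1) : oneM i D = ∑ a, ∑ b, D a b • e i a b := by
  conv_lhs => rw [Matrix.matrix_eq_sum_single D]
  simp only [oneM_sum]
  refine Finset.sum_congr rfl fun a _ => Finset.sum_congr rfl fun b _ => ?_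
  rw [e, ← oneM_smul, Matrix.smul_single, smul_eq_mul, mul_one]

theorem sum_single_one : ∑ c : Fin m, Matrix.single c c (1 : F) = 1 := by
  ext a b
  rw [Matrix.sum_apply, Finset.sum_eq_single a (fun c _ hc => by simp [Matrix.single_apply, hc]) (by simp)]
  simp [Matrix.single_apply, Matrix.one_apply]

theorem sum_e (i : ι) : ∑ c : Fin m, e (F := F) i c c = 1 := by
  simp only [e]
  rw [← oneM_sum, ← oneM_one i, sum_single_one]

theorem e_mul_apply (i : ι) (c d : Fin m) (Y : Big) (x y : ι → Fin m) :
    (e (F := F) i c d * Y : Matrix (ι → Fin m) (ι → Fin m) F) x y = if x i = c then Y (Function.update x i d) y else 0 := by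
  have hE : ∀ z, e (F := F) i c d x z = if x i = c ∧ z = Function.update x i d then 1 else 0 := by
    intro z
    rw [e, oneM, pt_apply]
    split_ifs with h
    · obtain ⟨h1, rfl⟩ := h
      refine Finset.prod_eq_one fun k _ => ?_
      by_cases hk : k = i
      · subst hk; simp [h1]
      · simp [Function.update_of_ne hk]
    · by_cases h1 : x i = c
      · obtain ⟨k, hk⟩ := Function.ne_iff.1 fun hz => h ⟨h1, hz⟩
        refine Finset.prod_eq_zero (Finset.mem_univ k) ?_
        by_cases hki : k = i
        · subst hki; simp at hk; simp [Ne.symm hk]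
        · rw [Function.update_of_ne hki] at hk
          simp [Function.update_of_ne hki, Ne.symm hk]
      · refine Finset.prod_eq_zero (Finset.mem_univ i) ?_
        simp [Ne.symm h1]
  by_cases h : x i = c <;> simp [Matrix.mul_apply, hE, h]

theorem mul_e_apply (i : ι) (c d : Fin m) (Y : Big) (x y : ι → Fin m) :
    (Y * e (F := F) i c d : Matrix (ι → Fin m) (ι → Fin m) F) x y = if y i = d then Y x (Function.update y i c) else 0 := by
  have hT : (e (F := F) i c d)ᵀ = e i d c := by
    ext u v
    rw [Matrix.transpose_apply, e, e, oneM, oneM, pt_apply, pt_apply]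
    refine Finset.prod_congr rfl fun k _ => ?_
    by_cases hk : k = i
    · subst hk; simp [Matrix.single_apply, and_comm]
    · simp [Function.update_of_ne hk, Matrix.one_apply, eq_comm]
  have h := congrFun (congrFun (Matrix.transpose_mul Y (e i c d)) y) x
  rw [Matrix.transpose_apply] at h
  rw [h, hT, e_mul_apply]
  rfl

/-- The identity at the factor `i`. -/
def One (i : ι) (Y : Matrix (ι → Fin m) (ι → Fin m) F) : Prop :=
  ∀ D : Matrix (Fin m) (Fin m) F, oneM i D * Y = Y * oneM i D

/-- A root at the factor `i`. -/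
def Root (i : ι) (c d : Fin m) (Y : Matrix (ι → Fin m) (ι → Fin m) F) : Prop :=
  c ≠ d ∧ e i c c * Y * e i d d = Y

theorem root_left {i : ι} {c d : Fin m} {Y : Big} (h : Root i c d Y) {a b : Fin m} (hbc : b ≠ c) :
    e i a b * Y = 0 := by
  rw [← h.2, ← mul_assoc, ← mul_assoc, e_mul, if_neg hbc, zero_mul, zero_mul]

theorem root_right {i : ι} {c d : Fin m} {Y : Big} (h : Root i c d Y) {a b : Fin m} (had : a ≠ d) :
    Y * e i a b = 0 := by
  rw [← h.2, mul_assoc, e_mul, if_neg had.symm, mul_zero]

theorem eq_scalar_of_one {Y : Big} (hm : 0 < m) (h : ∀ i, One i Y) : ∃ z : F, Y = z • 1 := by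
  obtain ⟨x0⟩ : Nonempty (ι → Fin m) := ⟨fun _ => ⟨0, hm⟩⟩
  have hp : ∀ a : ι → A1, Commute (pt a) Y := by
    intro a
    suffices hK : ∀ K : Finset ι, Commute (pt (K.piecewise a 1)) Y by
      simpa [Finset.piecewise_univ] using hK Finset.univ
    intro K
    induction K using Finset.induction_on with
    | empty => rw [Finset.piecewise_empty, pt_one]; exact Commute.one_left Y
    | insert k K hk ih =>
      have hKk : pt ((insert k K).piecewise a 1) = oneM k (a k) * pt (K.piecewise a 1) := by
        rw [oneM, pt_mul]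
        congr 1
        ext1 l
        by_cases hl : l = k
        · subst hl; simp [hk]
        · simp [Finset.piecewise, Function.update_of_ne hl, hl]
      rw [hKk]
      exact Commute.mul_left (h k (a k)) ih
  refine ⟨Y x0 x0, Matrix.ext fun x y => ?_⟩
  have h1 := congrFun (congrFun (hp fun i => Matrix.single (x0 i) (x i) 1).eq x0) y
  rw [pt_single] at h1
  simp [Matrix.mul_apply, Matrix.single_apply, ite_and] at h1
  by_cases hxy : x = y
  · subst hxy; simpa using h1
  · simpa [hxy, Matrix.one_apply] using h1

section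

variable (S : Subalgebra F (Matrix (ι → Fin m) (ι → Fin m) F))
  (hinv : ∀ (i : ι) (c d : Fin m), c ≠ d → ∀ A ∈ S, (1 + e i c d) * A * (1 - e i c d) ∈ S)

include hinv

theorem diff_mem {i : ι} {c d : Fin m} (h : c ≠ d) {A : Big} (hA : A ∈ S) :
    e i c d * A - A * e i c d - e i c d * A * e i c d ∈ S := by
  convert sub_mem (hinv i c d h A hA) hA using 1
  noncomm_ring

theorem move_left {i : ι} {c d r : Fin m} {Y : Big} (hY : Y ∈ S) (h : Root i c d Y) (hr : r ≠ d) :
    e i r c * Y ∈ S := by
  by_cases hrc : r = c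
  · subst hrc
    rw [← h.2, ← mul_assoc, ← mul_assoc, e_mul, if_pos rfl, h.2]; exact hY
  have h1 := diff_mem S hinv (i := i) hrc hY
  rwa [root_right h hr, sub_zero, mul_assoc, root_right h hr, mul_zero, sub_zero] at h1

theorem move_right {i : ι} {c d s : Fin m} {Y : Big} (hY : Y ∈ S) (h : Root i c d Y) (hs : s ≠ c) :
    Y * e i d s ∈ S := by
  by_cases hds : d = s
  · subst hds
    rw [← h.2, mul_assoc, e_mul, if_pos rfl, h.2]; exact hY
  have h1 := diff_mem S hinv (i := i) hds hY
  rw [root_left h hs, zero_sub, zero_mul, sub_zero] at h1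
  exact neg_mem_iff.1 h1

theorem sandwich_mem (hm : 3 ≤ m) {i : ι} {c d : Fin m} (h : c ≠ d) {Y : Big} (hY : Y ∈ S) :
    e i c d * Y * e i c d ∈ S := by
  obtain ⟨d', hd'c, hd'd⟩ : ∃ d', d' ≠ c ∧ d' ≠ d := by
    have hc : ({c, d} : Finset (Fin m)).card < (Finset.univ : Finset (Fin m)).card := by
      rw [Finset.card_univ, Fintype.card_fin]; exact lt_of_le_of_lt Finset.card_le_two (by omega)
    obtain ⟨z, -, hz⟩ := Finset.exists_mem_notMem_of_card_lt_card hc
    exact ⟨z, by simpa using hz⟩
  set E := e (F := F) i c d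
  set E' := e (F := F) i c d'
  have hEE : E * E' = 0 ∧ E' * E = 0 ∧ E * E = 0 ∧ E' * E' = 0 :=
    ⟨by simp [E, E', e_mul, h.symm], by simp [E, E', e_mul, hd'c], by simp [E, e_mul, h.symm],
      by simp [E', e_mul, hd'c]⟩
  -- conjugating by `1 + E + E'` is conjugating by both
  have h12 : (1 + (E + E')) * Y * (1 - (E + E')) ∈ S := by
    have := hinv i c d h _ (hinv i c d' hd'c.symm Y hY)
    convert this using 1
    calc (1 + (E + E')) * Y * (1 - (E + E'))
        = (1 + (E + E')) * Y * (1 - (E + E') + E' * E) := by rw [hEE.2.1, add_zero]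
      _ = ((1 + E) * (1 + E') - E * E') * Y * (1 - (E + E') + E' * E) := by noncomm_ring
      _ = _ := by rw [hEE.1, sub_zero]; noncomm_ring
  have hZ : E * Y * E' + E' * Y * E ∈ S := by
    have h3 := sub_mem (sub_mem (sub_mem h12 hY) (sub_mem (hinv i c d h Y hY) hY))
      (sub_mem (hinv i c d' hd'c.symm Y hY) hY)
    convert neg_mem h3 using 1
    noncomm_ring
  have h4 := diff_mem S hinv (i := i) hd'd hZ
  have f1 : e (F := F) i d' d * E = 0 := by simp [E, e_mul, h.symm]
  have f2 : e (F := F) i d' d * E' = 0 := by simp [E', e_mul, h.symm]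
  have g1 : E * e i d' d = 0 := by simp [E, e_mul, hd'd.symm]
  have g2 : E' * e i d' d = E := by simp [E, E', e_mul]
  have e1 : e i d' d * (E * Y * E' + E' * Y * E) = 0 := by
    rw [mul_add, ← mul_assoc, ← mul_assoc, f1, zero_mul, zero_mul, ← mul_assoc, ← mul_assoc, f2, zero_mul,
      zero_mul, add_zero]
  rw [e1, zero_mul, sub_zero, zero_sub, add_mul, mul_assoc (E * Y), g2, mul_assoc (E' * Y), g1, mul_zero,
    add_zero] at h4
  exact neg_mem_iff.1 h4

/-- Making the element pure at the factor `i`. -/
theorem step (hm : 3 ≤ m) (i : ι) {Y : Big} (hY : Y ∈ S) (hns : ∀ z : F, Y ≠ z • 1) :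
    ∃ W ∈ S, (∀ z : F, W ≠ z • 1) ∧ (One i W ∨ ∃ c d, Root i c d W) ∧
      ∀ i', i' ≠ i → (One i' Y → One i' W) ∧ ∀ c d, Root i' c d Y → Root i' c d W := by
  have hscal : ∀ {c d : Fin m} {W : Big}, Root i c d W → W ≠ 0 → ∀ z : F, W ≠ z • 1 := by
    intro c d W hW h0 z hz
    refine h0 ?_
    rw [← hW.2, hz, mul_smul_comm, mul_one, smul_mul_assoc, e_mul, if_neg hW.1, smul_zero]
  have hkeep : ∀ (D E : A1) (i' : ι), i' ≠ i →
      (One i' Y → One i' (oneM i D * Y * oneM i E)) ∧
        ∀ c d, Root i' c d Y → Root i' c d (oneM i D * Y * oneM i E) := by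
    intro D E i' hi
    refine ⟨fun h G => ?_, fun c d h => ⟨h.1, ?_⟩⟩
    · rw [← mul_assoc, ← mul_assoc, e_comm hi, mul_assoc (oneM i D), h, ← mul_assoc, mul_assoc (oneM i D * Y),
        e_comm hi, ← mul_assoc]
    · calc e i' c c * (oneM i D * Y * oneM i E) * e i' d d
          = e i' c c * oneM i D * Y * (oneM i E * e i' d d) := by simp only [mul_assoc]
        _ = oneM i D * e i' c c * Y * (e i' d d * oneM i E) := by rw [e, e, e_comm hi (Matrix.single c c 1) D, e_comm hi.symm E (Matrix.single d d 1)]
        _ = oneM i D * (e i' c c * Y * e i' d d) * oneM i E := by simp only [mul_assoc]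
        _ = _ := by rw [h.2]
  by_cases hsw : ∃ c d, c ≠ d ∧ e i c d * Y * e i c d ≠ 0
  · obtain ⟨c, d, hcd, hne⟩ := hsw
    have hR : Root i c d (e i c d * Y * e i c d) := ⟨hcd, by
      rw [← mul_assoc, ← mul_assoc, e_mul, if_pos rfl, mul_assoc _ _ (e i d d), e_mul, if_pos rfl]⟩
    exact ⟨_, sandwich_mem S hinv hm hcd hY, hscal hR hne, Or.inr ⟨c, d, hR⟩, hkeep _ _⟩
  push Not at hsw
  have hblock : ∀ a b : Fin m, a ≠ b → e i a a * Y * e i b b = 0 := by
    intro a b hab
    have h1 := congrArg (fun Z => e i a b * Z * e i a b) (hsw b a hab.symm)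
    simp only [← mul_assoc, e_mul, if_true, mul_zero, zero_mul] at h1
    rwa [mul_assoc _ (e i b a), e_mul, if_pos rfl] at h1
  by_cases hc : ∀ c d, c ≠ d → e i c d * Y = Y * e i c d
  · refine ⟨Y, hY, hns, Or.inl ?_, fun i' _ => ⟨id, fun _ _ => id⟩⟩
    have hall : ∀ c d, Commute (e i c d) Y := by
      intro c d
      by_cases hcd : c = d
      · subst hcd
        obtain ⟨l, hl⟩ : ∃ l : Fin m, l ≠ c := Fintype.exists_ne_of_one_lt_card (by simp; omega) c
        have := Commute.mul_left (hc c l hl.symm) (hc l c hl)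
        rwa [e_mul, if_pos rfl] at this
      · exact hc c d hcd
    intro D
    rw [oneM_eq_sum]
    exact (Commute.sum_left _ _ _ fun a _ => Commute.sum_left _ _ _ fun b _ => (hall a b).smul_left _).eq
  push Not at hc
  obtain ⟨c, d, hcd, hne⟩ := hc
  set W := e i c d * Y - Y * e i c d with hW
  have hmem : W ∈ S := by
    have := diff_mem S hinv (i := i) hcd hY
    rwa [hsw c d hcd, sub_zero] at this
  have h1 : e i c d * Y = e i c d * Y * e i d d := by
    conv_lhs => rw [← mul_one (e i c d * Y), ← sum_e i, Finset.mul_sum]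
    refine Finset.sum_eq_single d (fun b _ hb => ?_) (by simp)
    rw [show e (F := F) i c d = e i c d * e i d d by rw [e_mul, if_pos rfl], mul_assoc (e i c d), mul_assoc (e i c d),
      hblock d b hb.symm, mul_zero]
  have h2 : Y * e i c d = e i c c * Y * e i c d := by
    conv_lhs => rw [← one_mul (Y * e i c d), ← sum_e i, Finset.sum_mul]
    refine (Finset.sum_eq_single c (fun b _ hb => ?_) (by simp)).trans (mul_assoc _ _ _).symm
    rw [show e (F := F) i c d = e i c c * e i c d by rw [e_mul, if_pos rfl], ← mul_assoc, ← mul_assoc,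
      hblock b c hb, zero_mul]
  have hR : Root i c d W := ⟨hcd, by
    rw [hW, h1, h2, mul_sub, sub_mul]
    simp only [← mul_assoc, e_mul, if_true]
    rw [mul_assoc _ (e i d d), mul_assoc _ (e i c d), e_mul, e_mul, if_pos rfl, if_pos rfl]⟩
  refine ⟨W, hmem, hscal hR (sub_ne_zero.2 hne), Or.inr ⟨c, d, hR⟩, fun i' hi => ?_⟩
  have k1 := hkeep (Matrix.single c d 1) 1 i' hi
  have k2 := hkeep 1 (Matrix.single c d 1) i' hi
  rw [oneM_one, mul_one] at k1
  rw [oneM_one, one_mul] at k2
  refine ⟨fun h G => ?_, fun a b h => ⟨h.1, ?_⟩⟩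
  · have a1 := k1.1 h G
    have a2 := k2.1 h G
    rw [hW, e, mul_sub, sub_mul, a1, a2]
  · have a1 := (k1.2 a b h).2
    have a2 := (k2.2 a b h).2
    simp only [e] at a1 a2
    simp only [hW, e, mul_sub, sub_mul]
    rw [a1, a2]

theorem pure_mem (hm : 3 ≤ m) (K : Finset ι) {A₀ : Big} (hA₀ : A₀ ∈ S) (hns : ∀ z : F, A₀ ≠ z • 1) :
    ∃ W ∈ S, (∀ z : F, W ≠ z • 1) ∧ ∀ i ∈ K, One i W ∨ ∃ c d, Root i c d W := by
  induction K using Finset.induction_on with
  | empty => exact ⟨A₀, hA₀, hns, by simp⟩
  | insert k K hk ih =>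
    obtain ⟨Y, hY, hYns, hall⟩ := ih
    obtain ⟨W, hW, hWns, hform, hkeep⟩ := step S hinv hm k hY hYns
    refine ⟨W, hW, hWns, fun i hi => ?_⟩
    rcases Finset.mem_insert.1 hi with rfl | hi
    · exact hform
    have hne : i ≠ k := fun h => hk (h ▸ hi)
    rcases hall i hi with h | ⟨c, d, h⟩
    · exact Or.inl ((hkeep i hne).1 h)
    · exact Or.inr ⟨c, d, (hkeep i hne).2 c d h⟩

theorem eq_top (hm : 3 ≤ m)
    (hperm : ∀ i i' : ι, (∀ D : A1, oneM i D ∈ S) → ∀ D : A1, oneM i' D ∈ S)
    {A₀ : Big} (hA₀ : A₀ ∈ S) (hns : ∀ z : F, A₀ ≠ z • 1) : S = ⊤ := by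
  classical
  obtain ⟨Y, hY, hYns, hform'⟩ := pure_mem S hinv hm Finset.univ hA₀ hns
  have hform : ∀ i, One i Y ∨ ∃ c d, Root i c d Y := fun i => hform' i (Finset.mem_univ i)
  let J : Finset ι := Finset.univ.filter fun i => ¬ One i Y
  have hJ : ∀ i ∈ J, ∃ c d, Root i c d Y := fun i hi => (hform i).resolve_left (Finset.mem_filter.1 hi).2
  have hJ' : ∀ i ∉ J, One i Y := fun i hi => by simpa [J] using hi
  obtain ⟨i0, hi0⟩ : ∃ i, i ∈ J := by
    by_contra hc
    push Not at hc
    obtain ⟨z, hz⟩ := eq_scalar_of_one (by omega) fun i => hJ' i (hc i)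
    exact hYns z hz
  haveI : Nonempty (Fin m) := ⟨⟨0, by omega⟩⟩
  choose! c d hcd using hJ
  let pat : (ι → Fin m × Fin m) → ι → A1 := fun q i => if i ∈ J then Matrix.single (q i).1 (q i).2 1 else 1
  -- the element is a multiple of its pattern
  obtain ⟨z, hz⟩ : ∃ z : F, Y = z • pt (pat fun i => (c i, d i)) := by
    set x0 : ι → Fin m := fun i => if i ∈ J then c i else ⟨0, by omega⟩
    set y0 : ι → Fin m := fun i => if i ∈ J then d i else ⟨0, by omega⟩
    let good : (ι → Fin m) → (ι → Fin m) → Prop :=
      fun x y => ∀ i, if i ∈ J then x i = c i ∧ y i = d i else x i = y i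
    have hzero : ∀ x y, ¬ good x y → Y x y = 0 := by
      intro x y hxy
      obtain ⟨i, hi⟩ := not_forall.1 hxy
      split_ifs at hi with hiJ
      · by_contra hne
        have h := congrFun (congrFun (hcd i hiJ).2 x) y
        rw [mul_e_apply, e_mul_apply] at h
        split_ifs at h with h1 h2
        · exact hi ⟨h2, h1⟩
        · exact hne h.symm
        · exact hne h.symm
      · have h := congrFun (congrFun (hJ' i hiJ (Matrix.single (x i) (x i) 1)) x) y
        rw [← e, e_mul_apply, mul_e_apply, if_pos rfl, if_neg (Ne.symm hi), Function.update_eq_self] at h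
        exact h
    have hsame : ∀ x y, good x y → Y x y = Y x0 y0 := by
      intro x y hxy
      suffices hK : ∀ K : Finset ι, Y (K.piecewise x0 x) (K.piecewise y0 y) = Y x y by
        simpa [Finset.piecewise_univ] using (hK Finset.univ).symm
      intro K
      induction K using Finset.induction_on with
      | empty => simp
      | insert k K hk ih =>
        rw [← ih, Finset.piecewise_insert, Finset.piecewise_insert]
        set X := K.piecewise x0 x
        set Z := K.piecewise y0 y
        have hXk : X k = x k := Finset.piecewise_eq_of_notMem _ _ _ hk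
        have hZk : Z k = y k := Finset.piecewise_eq_of_notMem _ _ _ hk
        have hk' := hxy k
        by_cases hkJ : k ∈ J
        · rw [if_pos hkJ] at hk'
          rw [show x0 k = X k by simp [x0, hkJ, hXk, hk'.1], show y0 k = Z k by simp [y0, hkJ, hZk, hk'.2],
            Function.update_eq_self, Function.update_eq_self]
        · rw [if_neg hkJ] at hk'
          have hxy0 : x0 k = y0 k := by simp [x0, y0, hkJ]
          have h := congrFun (congrFun (hJ' k hkJ (Matrix.single (x0 k) (X k) 1))
            (Function.update X k (x0 k))) Z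
          rw [← e, e_mul_apply, mul_e_apply, Function.update_self, if_pos rfl,
            if_pos (show Z k = X k by rw [hXk, hZk, hk']), Function.update_idem, Function.update_eq_self] at h
          rw [h, ← hxy0]
    refine ⟨Y x0 y0, Matrix.ext fun x y => ?_⟩
    rw [Matrix.smul_apply, pt_apply, smul_eq_mul]
    by_cases hxy : good x y
    · rw [hsame x y hxy, Finset.prod_eq_one fun i _ => ?_, mul_one]
      have := hxy i
      by_cases hiJ : i ∈ J
      · rw [if_pos hiJ] at this; simp [pat, hiJ, this.1, this.2]
      · rw [if_neg hiJ] at this; simp [pat, hiJ, this]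
    · obtain ⟨i, hi⟩ := not_forall.1 hxy
      rw [hzero x y hxy, Finset.prod_eq_zero (Finset.mem_univ i) ?_, mul_zero]
      split_ifs at hi with hiJ
      · simp [pat, hiJ, Matrix.single_apply]
        exact fun h1 h2 => hi ⟨h1.symm, h2.symm⟩
      · simp [pat, hiJ, hi]
  have hz0 : z ≠ 0 := fun e0 => hYns 0 (by rw [hz, e0, zero_smul, zero_smul])
  have hY0 : pt (pat fun i => (c i, d i)) ∈ S := by
    have := S.smul_mem hY z⁻¹
    rwa [hz, inv_smul_smul₀ hz0] at this
  have hupd : ∀ (q : ι → Fin m × Fin m) (k : ι), k ∈ J → ∀ p, pat (Function.update q k p) =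
      Function.update (pat q) k (Matrix.single p.1 p.2 1) := by
    intro q k hk p
    ext1 i
    by_cases hi : i = k
    · subst hi; simp [pat, hk]
    · simp [pat, Function.update_of_ne hi]
  have hroot : ∀ (q : ι → Fin m × Fin m), (∀ i ∈ J, (q i).1 ≠ (q i).2) → pt (pat q) ∈ S := by
    intro q hq
    suffices hK : ∀ K : Finset ι, pt (pat (K.piecewise q fun i => (c i, d i))) ∈ S by
      simpa [Finset.piecewise_univ] using hK Finset.univ
    intro K
    induction K using Finset.induction_on with
    | empty => simpa using hY0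
    | insert k K hk ih =>
      rw [Finset.piecewise_insert]
      set Q := K.piecewise q fun i => (c i, d i)
      by_cases hkJ : k ∈ J
      swap
      · have : pat (Function.update Q k (q k)) = pat Q := by
          ext1 i
          by_cases hi : i = k
          · subst hi; simp [pat, hkJ]
          · simp [pat, Function.update_of_ne hi]
        rwa [this]
      have hroot1 : ∀ (p : Fin m × Fin m), p.1 ≠ p.2 → Root k p.1 p.2 (pt (pat (Function.update Q k p))) := by
        intro p hp
        refine ⟨hp, ?_⟩
        rw [e, e, oneM, oneM, pt_mul, pt_mul]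
        congr 1
        ext1 i
        by_cases hi : i = k
        · subst hi; simp [pat, hkJ]
        · simp [Function.update_of_ne hi]
      have hL : ∀ (a b r : Fin m), a ≠ b → r ≠ b → pt (pat (Function.update Q k (a, b))) ∈ S →
          pt (pat (Function.update Q k (r, b))) ∈ S := by
        intro a b r hab hrb hmem
        have := move_left S hinv hmem (hroot1 (a, b) hab) hrb
        convert this using 1
        rw [e, oneM, pt_mul, hupd _ _ hkJ, hupd _ _ hkJ]
        congr 1
        ext1 i
        by_cases hi : i = k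
        · subst hi; simp
        · simp [Function.update_of_ne hi]
      have hR : ∀ (a b s : Fin m), a ≠ b → s ≠ a → pt (pat (Function.update Q k (a, b))) ∈ S →
          pt (pat (Function.update Q k (a, s))) ∈ S := by
        intro a b s hab hsa hmem
        have := move_right S hinv hmem (hroot1 (a, b) hab) hsa
        convert this using 1
        rw [e, oneM, pt_mul, hupd _ _ hkJ, hupd _ _ hkJ]
        congr 1
        ext1 i
        by_cases hi : i = k
        · subst hi; simp
        · simp [Function.update_of_ne hi]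
      have hQk : Function.update Q k (c k, d k) = Q := by
        rw [show (c k, d k) = Q k by simp [Q, hk], Function.update_eq_self]
      rw [← hQk] at ih
      have hab := (hcd k hkJ).1
      have hrs := hq k hkJ
      by_cases hrb : (q k).1 = d k
      · obtain ⟨w, -, hw⟩ := Finset.exists_mem_notMem_of_card_lt_card
          (show ({c k, d k} : Finset (Fin m)).card < (Finset.univ : Finset (Fin m)).card by
            rw [Finset.card_univ, Fintype.card_fin]; exact lt_of_le_of_lt Finset.card_le_two (by omega))
        simp only [Finset.mem_insert, Finset.mem_singleton, not_or] at hw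
        have h1 := hR _ _ w hab hw.1 ih
        have h2 := hL _ _ (q k).1 (Ne.symm hw.1) (fun h => hw.2 (h.symm.trans hrb)) h1
        exact hR _ _ (q k).2 (fun h => hw.2 (h.symm.trans hrb)) hrs.symm h2
      · exact hR _ _ _ hrb hrs.symm (hL _ _ (q k).1 hab hrb ih)
  -- idempotents
  have hidem : ∀ q : ι → Fin m, pt (pat fun i => (q i, q i)) ∈ S := by
    intro q
    choose l hl using fun i => Fintype.exists_ne_of_one_lt_card (α := Fin m) (by simp; omega) (q i)
    have := S.mul_mem (hroot (fun i => (q i, l i)) fun i _ => (hl i).symm)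
      (hroot (fun i => (l i, q i)) fun i _ => hl i)
    rw [pt_mul] at this
    convert this using 2
    ext1 i
    by_cases hi : i ∈ J <;> simp [pat, hi]
  set o : Fin m := ⟨0, by omega⟩
  have h00 : e i0 o o ∈ S := by
    suffices hK : ∀ K : Finset ι, K ⊆ J.erase i0 → ∀ q : ι → Fin m,
        pt (K.piecewise (1 : ι → A1) (pat fun i => (q i, q i))) ∈ S by
      have h := hK (J.erase i0) subset_rfl fun _ => o
      convert h using 1
      rw [e, oneM]
      congr 1
      ext1 i
      by_cases hi : i = i0
      · subst hi; simp [pat, hi0]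
      · by_cases hiJ : i ∈ J <;> simp [Function.update_of_ne hi, hi, hiJ, pat]
    intro K
    induction K using Finset.induction_on with
    | empty => intro _ q; simpa using hidem q
    | insert k K hk ih =>
      intro hsub q
      have hkJ : k ∈ J := Finset.mem_of_mem_erase (hsub (Finset.mem_insert_self k K))
      rw [Finset.piecewise_insert, Pi.one_apply]
      set R := K.piecewise (1 : ι → A1) (pat fun i => (q i, q i))
      have hsum : pt (Function.update R k 1) = ∑ r : Fin m, pt (Function.update R k (Matrix.single r r 1)) := by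
        have h1 := map_sum (AddMonoidHom.mk' (fun D : A1 => pt (Function.update R k D)) (pt_update_add R k))
          (fun r => Matrix.single r r (1 : F)) Finset.univ
        refine Eq.trans ?_ h1
        show pt (Function.update R k 1) = pt (Function.update R k (∑ r, Matrix.single r r (1 : F)))
        rw [sum_single_one]
      rw [hsum]
      refine sum_mem fun r _ => ?_
      have := ih ((Finset.subset_insert k K).trans hsub) (Function.update q k r)
      convert this using 2
      ext1 i
      by_cases hi : i = k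
      · subst hi; simp [R, hk, pat, hkJ]
      · by_cases hiK : i ∈ K <;> simp [R, hiK, pat, Function.update_of_ne hi]
  have hall0 : ∀ D : A1, oneM i0 D ∈ S := by
    have hto : ∀ a, e i0 a o ∈ S := fun a => by
      by_cases ha : a = o
      · rw [ha]; exact h00
      · have := diff_mem S hinv (i := i0) ha h00
        rwa [e_mul, if_pos rfl, e_mul, if_neg (Ne.symm ha), sub_zero, e_mul, if_neg (Ne.symm ha), sub_zero]
          at this
    have hfrom : ∀ b, e i0 o b ∈ S := fun b => by
      by_cases hb : b = o
      · rw [hb]; exact h00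
      · have := diff_mem S hinv (i := i0) (Ne.symm hb) h00
        rwa [e_mul, if_neg hb, zero_sub, zero_mul, sub_zero, e_mul, if_pos rfl, neg_mem_iff] at this
    intro D
    rw [oneM_eq_sum]
    refine sum_mem fun a _ => sum_mem fun b _ => S.smul_mem ?_ _
    have := S.mul_mem (hto a) (hfrom b)
    rwa [e_mul, if_pos rfl] at this
  have hall : ∀ (i : ι) (D : A1), oneM i D ∈ S := fun i => hperm i0 i hall0
  refine eq_top_iff.2 fun A _ => ?_
  rw [Matrix.matrix_eq_sum_single A]
  refine sum_mem fun x _ => sum_mem fun y _ => ?_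
  have hxy : pt (fun i => Matrix.single (x i) (y i) (1 : F)) ∈ S := by
    set a : ι → A1 := fun i => Matrix.single (x i) (y i) 1
    suffices hK : ∀ K : Finset ι, pt (K.piecewise a 1) ∈ S by
      simpa [Finset.piecewise_univ] using hK Finset.univ
    intro K
    induction K using Finset.induction_on with
    | empty => rw [Finset.piecewise_empty, pt_one]; exact S.one_mem
    | insert k K hk ih =>
      have := S.mul_mem (hall k (a k)) ih
      rw [oneM, pt_mul] at this
      convert this using 2
      ext1 l
      by_cases hl : l = k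
      · subst hl; simp [hk]
      · simp [Finset.piecewise, Function.update_of_ne hl, hl]
  rw [pt_single] at hxy
  have := S.smul_mem hxy (A x y)
  rwa [Matrix.smul_single, smul_eq_mul, mul_one] at this

end

end Cfsg.Agent.Lib.TensorPowerMax.AlgTop
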