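import Cfsg.Agent.Lib.TensorPowerMax.Roots

/-!
Elements of the group carrying one block onto another lie in the stabiliser, given the dichotomy in
lower degree.
-/

set_option autoImplicit false
set_option linter.unusedSectionVars false

namespace Cfsg.Agent.Lib.TensorPowerMax.BlockTo

open Matrix Kronecker
open Cfsg.Agent.Lib.Subspaces.Transvection Cfsg.Agent.Lib.Subspaces.FormVec
  Cfsg.Agent.Lib.TensorPowerMax.Basic Cfsg.Agent.Lib.TensorPowerMax.Split

variable {ι : Type} [Fintype ι] [DecidableEq ι] {m : ℕ} {F : Type*} [Field F]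

local notation "A1" => Matrix (Fin m) (Fin m) F
local notation "Big" => Matrix (ι → Fin m) (ι → Fin m) F
local notation "GG" => GL (ι → Fin m) F
local notation "W1" => Fin m → F

/-- The dichotomy in lower degree. -/
def Lower (ι : Type) [Fintype ι] (m : ℕ) (F : Type*) [Field F] : Prop :=
  ∀ (κ : Type) [Fintype κ] [DecidableEq κ], Fintype.card κ < Fintype.card ι →
    ∀ M : Subgroup (GL (κ → Fin m) F), Setting M →
      M ≤ stab κ m F ∨ Cfsg.Geo.specialLinear (κ → Fin m) F ≤ M

theorem kronGL_mul {α : Type} [Fintype α] [DecidableEq α] (A A' : GL α F) (b b' : GL (Fin m) F) :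
    Side.kronGL A b * Side.kronGL A' b' = Side.kronGL (A * A') (b * b') :=
  Units.ext (Matrix.mul_kronecker_mul _ _ _ _).symm

theorem kronGL_one {α : Type} [Fintype α] [DecidableEq α] :
    Side.kronGL (1 : GL α F) (1 : GL (Fin m) F) = 1 :=
  Units.ext Matrix.one_kronecker_one

theorem kronGL_inv {α : Type} [Fintype α] [DecidableEq α] (A : GL α F) (b : GL (Fin m) F) :
    (Side.kronGL A b)⁻¹ = Side.kronGL A⁻¹ b⁻¹ :=
  inv_eq_of_mul_eq_one_right (by rw [kronGL_mul, mul_inv_cancel, mul_inv_cancel, kronGL_one])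

theorem mem_stab_of_kron {j : ι} {C : GL ({i // i ≠ j} → Fin m) F} {b : GL (Fin m) F} {h : GG}
    (hC : C ∈ stab {i // i ≠ j} m F) (hh : spU j h = Side.kronGL C b) : h ∈ stab ι m F := by
  obtain ⟨a', σ', rfl⟩ := hC
  let a : ι → GL (Fin m) F := fun i => if hi : i = j then b else a' ⟨i, hi⟩
  have hfix : Equiv.Perm.ofSubtype σ' j = j := Equiv.Perm.ofSubtype_apply_of_not_mem σ' (by simp)
  refine ⟨a, Equiv.Perm.ofSubtype σ', (spU j).injective ?_⟩
  rw [hh, spU_tw' a _ hfix]
  have e1 : (fun i : {i // i ≠ j} => a i.1) = a' := by funext i; simp [a, i.2]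
  have e2 : restrict (Equiv.Perm.ofSubtype σ') hfix = σ' := by
    refine Equiv.ext fun i => Subtype.ext ?_
    show Equiv.Perm.ofSubtype σ' i.1 = _
    rw [Equiv.Perm.ofSubtype_apply_coe]
  rw [e1, e2]
  simp [a]
where
  spU_tw' (a : ι → GL (Fin m) F) (σ : Equiv.Perm ι) (h : σ j = j) :
      spU j (ptGL a * pmGL σ) =
        Side.kronGL (ptGL (fun i : {i // i ≠ j} => a i.1) * pmGL (restrict σ h)) (a j) :=
    spU_tw a σ h

theorem mem_stab_of_unique {κ : Type} [Fintype κ] [DecidableEq κ] (hκ : Fintype.card κ = 1)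
    (C : GL (κ → Fin m) F) : C ∈ stab κ m F := by
  obtain ⟨i0, hi0⟩ := Fintype.card_eq_one_iff.1 hκ
  have hall : ∀ x : κ → Fin m, (fun _ => x i0) = x := fun x => funext fun i => by rw [hi0 i]
  let ev : (κ → Fin m) ≃ Fin m :=
    { toFun := fun x => x i0, invFun := fun a _ => a, left_inv := hall, right_inv := fun _ => rfl }
  refine ⟨fun _ => Cfsg.Geo.glReindex ev C, 1, Units.ext (Matrix.ext fun x y => ?_)⟩
  rw [map_one, mul_one, coe_ptGL, pt_apply, Finset.prod_eq_single i0 (fun b _ hb => absurd (hi0 b) hb) (by simp)]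
  show C.val x y = C.val (fun _ => x i0) (fun _ => y i0)
  rw [hall, hall]

/-- The projection to the factors other than `j`. -/
def proj (M : Subgroup (GL (ι → Fin m) F)) (j : ι) : Subgroup (GL ({i // i ≠ j} → Fin m) F) where
  carrier := {C | ∃ b, Side.kronGL C b ∈ Mj M j}
  one_mem' := ⟨1, by rw [kronGL_one]; exact one_mem _⟩
  mul_mem' := by
    rintro A B ⟨a, ha⟩ ⟨b, hb⟩
    exact ⟨a * b, by rw [← kronGL_mul]; exact mul_mem ha hb⟩
  inv_mem' := by
    rintro A ⟨a, ha⟩
    exact ⟨a⁻¹, by rw [← kronGL_inv]; exact inv_mem ha⟩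

variable {M : Subgroup (GL (ι → Fin m) F)}

theorem proj_setting (S : Setting M) (hι : 3 ≤ Fintype.card ι) (j : ι) : Setting (proj M j) where
  one i b hb := ⟨1, by rw [← spU_oneGL_ne i.2]; exact (spU_mem_iff j _).2 (S.one _ b hb)⟩
  perm := Or.inr fun σ => by
    obtain ⟨a, ha⟩ := (S.perm.resolve_left (by omega)) (Equiv.Perm.ofSubtype σ)
    have hfix : Equiv.Perm.ofSubtype σ j = j := Equiv.Perm.ofSubtype_apply_of_not_mem σ (by simp)
    have hmem := (spU_mem_iff j _).2 ha
    rw [spU_tw a _ hfix] at hmem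
    have e2 : restrict (Equiv.Perm.ofSubtype σ) hfix = σ := by
      refine Equiv.ext fun i => Subtype.ext ?_
      show Equiv.Perm.ofSubtype σ i.1 = _
      rw [Equiv.Perm.ofSubtype_apply_coe]
    rw [e2] at hmem
    exact ⟨_, _, hmem⟩
  hm := S.hm
  hι := by rw [Fintype.card_subtype_compl, Fintype.card_subtype_eq]; omega

theorem good_of_full (S : Setting M) (hι : 3 ≤ Fintype.card ι) (j : ι)
    (hfull : Cfsg.Geo.specialLinear ({i // i ≠ j} → Fin m) F ≤ proj M j) : Good M := by
  classical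
  have hm := S.hm
  have hcard : 1 < Fintype.card {i // i ≠ j} := by
    rw [Fintype.card_subtype_compl, Fintype.card_subtype_eq]; omega
  obtain ⟨l, k, hlk⟩ := Fintype.exists_pair_of_one_lt_card hcard
  set o : Fin m := ⟨0, by omega⟩
  set c1 : Fin m := ⟨1, by omega⟩
  set c2 : Fin m := ⟨2, by omega⟩
  let P : {i // i ≠ j} → Fin m := fun i => if i = l then c2 else c1
  let Q : {i // i ≠ j} → Fin m := fun _ => o
  let Q' : {i // i ≠ j} → Fin m := fun i => if i = l then c1 else o
  have h01 : o ≠ c1 := by simp [o, c1, Fin.ext_iff]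
  have h02 : o ≠ c2 := by simp [o, c2, Fin.ext_iff]
  have h12 : c1 ≠ c2 := by simp [c1, c2, Fin.ext_iff]
  have hPQ : (Pi.single Q 1 : ({i // i ≠ j} → Fin m) → F) ⬝ᵥ Pi.single P 1 = 0 := by
    have : Q ≠ P := fun e => h02 (by simpa [P, Q] using congrFun e l)
    simp [this.symm]
  have hsingle : ∀ {α : Type} [Fintype α] [DecidableEq α] (a b : α),
      vecMulVec (Pi.single a (1 : F)) (Pi.single b 1) = Matrix.single a b 1 := by
    intro α _ _ a b
    ext x y
    by_cases hx : x = a <;> by_cases hy : y = b <;>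
      simp [vecMulVec_apply, Matrix.single_apply, Pi.single_apply, hx, hy, Ne.symm, eq_comm]
  set a := tv (Pi.single P (1 : F)) (Pi.single Q 1) with ha
  have ha1 : a.val = 1 + Matrix.single P Q 1 := by rw [ha, coe_tv hPQ, hsingle]
  obtain ⟨b, hab⟩ := hfull (tv_mem_specialLinear (Pi.single P (1 : F)) (Pi.single Q 1))
  have horth : (Pi.single c1 1 : W1) ⬝ᵥ Pi.single o 1 = 0 := by simp [h01]
  set T := oneGL l (tv (Pi.single o (1 : F)) (Pi.single c1 1)) with hT
  have hT1 : T.val = 1 + oneM l (Matrix.single o c1 1) := by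
    rw [hT, coe_oneGL, coe_tv horth, oneM_add, oneM_one, hsingle]
  have hTm : Side.kronGL T (1 : GL (Fin m) F) ∈ Mj M j := by
    rw [hT, ← spU_oneGL_ne l.2]
    exact (spU_mem_iff j _).2 (S.one _ _ (det_tv _ _))
  have hcomm : Side.kronGL (a * T * a⁻¹ * T⁻¹) (1 : GL (Fin m) F) ∈ Mj M j := by
    have := mul_mem (mul_mem (mul_mem hab hTm) (inv_mem hab)) (inv_mem hTm)
    rw [kronGL_inv, kronGL_inv, kronGL_mul, kronGL_mul, kronGL_mul] at this
    simpa using this
  obtain ⟨g, hg, hge⟩ := hcomm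
  -- the commutator
  set X : Matrix ({i // i ≠ j} → Fin m) ({i // i ≠ j} → Fin m) F := Matrix.single P Q 1
  set Y := oneM (F := F) l (Matrix.single o c1 1)
  have hXpt : X = pt fun i => Matrix.single (P i) (Q i) 1 := (pt_single P Q).symm
  have hXX : X * X = 0 := Matrix.single_mul_single_of_ne _ _ _ _ (fun e => h02 (by simpa [P, Q] using congrFun e l)) _
  have hYY : Y * Y = 0 := by
    rw [oneM_mul, Matrix.single_mul_single_of_ne _ _ _ _ h01.symm, oneM_zero]
  have hYX : Y * X = 0 := by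
    ext x y
    simp only [Y, oneM]
    rw [hXpt, pt_mul, pt_apply, Matrix.zero_apply]
    refine Finset.prod_eq_zero (Finset.mem_univ l) ?_
    simp [P, Q, h12]
  have hXY : X * Y = pt fun i => Matrix.single (P i) (Q' i) 1 := by
    simp only [Y, oneM]
    rw [hXpt, pt_mul]
    congr 1
    ext1 i
    by_cases hi : i = l
    · subst hi; simp [P, Q, Q']
    · simp [P, Q, Q', hi, Function.update_of_ne hi]
  have hval : (a * T * a⁻¹ * T⁻¹).val = 1 + X * Y := by
    have hai : ((a⁻¹ : GL ({i // i ≠ j} → Fin m) F)).val = 1 - X := by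
      refine Units.inv_eq_of_mul_eq_one_right ?_
      rw [ha1, add_mul, mul_sub, mul_sub, hXX, one_mul, one_mul, mul_one]; abel
    have hTi : ((T⁻¹ : GL ({i // i ≠ j} → Fin m) F)).val = 1 - Y := by
      refine Units.inv_eq_of_mul_eq_one_right ?_
      rw [hT1, add_mul, mul_sub, mul_sub, hYY, one_mul, one_mul, mul_one]; abel
    rw [Units.val_mul, Units.val_mul, Units.val_mul, ha1, hT1, hai, hTi]
    simp only [add_mul, mul_add, sub_mul, mul_sub, one_mul, mul_one, Matrix.mul_assoc, hXX, hYY, hYX, mul_zero,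
      zero_mul]
    abel
  let E : ι → A1 := fun i => if hi : i = j then 1 else Matrix.single (P ⟨i, hi⟩) (Q' ⟨i, hi⟩) 1
  have hgE : (g : Big) = 1 + pt E := by
    apply (sp j).injective
    rw [map_add, map_one, sp_pt]
    have h1 := congrArg Units.val hge
    rw [show ((spU j).toMonoidHom g) = spU j g from rfl, coe_spU] at h1
    rw [h1]
    show (a * T * a⁻¹ * T⁻¹).val ⊗ₖ (1 : A1) = _
    rw [hval, Matrix.add_kronecker, Matrix.one_kronecker_one, hXY]
    congr 3
    · ext1 i; simp [E, i.2]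
    · simp [E]
  refine ⟨l.1, pt (fun i : {i // i ≠ l.1} => E i.1), Pi.single c2 1, Pi.single c1 1, ?_, by simp, by simp, ?_, ?_⟩
  · simp [h12.symm]
  · intro z hz
    let x0 : {i // i ≠ l.1} → Fin m := fun i => if hi : i.1 = j then o else P ⟨i.1, hi⟩
    let y0 : {i // i ≠ l.1} → Fin m := fun i => if hi : i.1 = j then o else Q' ⟨i.1, hi⟩
    have hkl : k.1 ≠ l.1 := fun e => hlk (Subtype.ext e.symm)
    have hne : x0 ≠ y0 := fun e => by
      have := congrFun e ⟨k.1, hkl⟩
      simp [x0, y0, k.2, P, Q', Ne.symm hlk, h01.symm] at this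
    have h1 := congrFun (congrFun hz x0) y0
    rw [Matrix.smul_apply, Matrix.one_apply_ne hne, smul_zero, pt_apply] at h1
    rw [Finset.prod_eq_one] at h1
    · exact one_ne_zero h1
    · intro i _
      by_cases hi : i.1 = j
      · simp [E, x0, y0, hi]
      · simp [E, x0, y0, hi]
  · have h2 := InM.side (M := M) ⟨g, hg, hgE⟩ l.1
    convert h2 using 1
    rw [sp_pt, Side.el, hsingle]
    congr 1
    simp [E, l.2, P, Q']

/-- The block carried onto a block. -/
theorem mem_of_block (S : Setting M) (hG : ¬ Good M) (hIH : Lower ι m F) {g : GG} (hg : g ∈ M)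
    {i j : ι} {v w : W1} (hv : v ≠ 0) (hw : w ≠ 0)
    (hgb : ∀ z ∈ block i v, (g : Big) *ᵥ z ∈ block j w) : g ∈ stab ι m F := by
  have hm := S.hm
  set τ := Equiv.swap i j with hτ
  have hτj : τ j = i := Equiv.swap_apply_right i j
  set h : GG := g * pmGL τ with hh
  have hpm : ∀ z ∈ block j v, ((pmGL τ : GG) : Big) *ᵥ z ∈ block i v := by
    intro z hz
    have := Roots.tw_mulVec_block (1 : ι → GL (Fin m) F) τ hv hz
    rw [map_one, one_mul, hτj, Pi.one_apply, Units.val_one, one_mulVec] at this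
    exact this
  have hhb : ∀ z ∈ block j v, (h : Big) *ᵥ z ∈ block j w := fun z hz => by
    rw [hh, gl_mul_mulVec]; exact hgb _ (hpm z hz)
  obtain ⟨ψw, hψw⟩ := exists_dot_eq_one hw
  have hroots : ∀ v' φ : W1, φ ⬝ᵥ v' = 0 → InM M ((h : Big) * oneM j (vecMulVec v' φ) * ((h⁻¹ : GG) : Big)) := by
    intro v' φ hφ
    convert (S.rootIn (j := i) hφ).conj hg using 1
    have e := tw_conj_oneM (1 : ι → GL (Fin m) F) τ j (vecMulVec v' φ)
    rw [map_one, one_mul, hτj] at e
    simp only [Pi.one_apply, inv_one, Units.val_one, one_mul, mul_one] at e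
    rw [hh, _root_.mul_inv_rev, Units.val_mul, Units.val_mul, ← e]
    simp only [mul_assoc]
  set H := spU j h
  have hB : Side.BlockTo H v w (Side.blk H.val ψw v) := by
    intro ψ
    have e1 : oneM j (vecMulVec w ψw) * (h : Big) * oneM j (vecMulVec v ψ) =
        (h : Big) * oneM j (vecMulVec v ψ) := by
      refine Matrix.mulVec_injective (funext fun z => ?_)
      rw [← mulVec_mulVec, ← mulVec_mulVec]
      have hmem : oneM j (vecMulVec v ψ) *ᵥ z ∈ block j v := by rw [oneM_mulVec]; exact LinearMap.mem_range_self _ _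
      obtain ⟨u, hu⟩ := hhb _ hmem
      rw [← mulVec_mulVec, ← hu, oneM_mulVec, ctr_ins, hψw, one_smul]
    have e2 := congrArg (sp j) e1
    simp only [map_mul, sp_oneM_self] at e2
    exact e2.symm.trans (Side.el_sandwich _ _ _ _ _)
  obtain ⟨C, N, hCN⟩ := (S.side j).mem_of_blockTo (fun hc => hG ⟨j, hc⟩) (g := H)
    (fun v' φ hφ => by
      have := (hroots v' φ hφ).side j
      rwa [map_mul, map_mul, sp_oneM_self, sp_inv] at this) hv hw hB
  have hstab : h ∈ stab ι m F → g ∈ stab ι m F := fun hh' => by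
    have := mul_mem hh' (inv_mem (pmGL_mem_stab τ))
    rwa [hh, mul_inv_cancel_right] at this
  rcases Nat.lt_or_ge (Fintype.card ι) 3 with hlt | hι
  · refine hstab (mem_stab_of_kron (mem_stab_of_unique ?_ C) hCN)
    rw [Fintype.card_subtype_compl, Fintype.card_subtype_eq]
    have := S.hι
    omega
  obtain ⟨a, ha⟩ := (S.perm.resolve_left (by omega)) τ
  have hge : g * (ptGL a * pmGL τ) = h * ptGL (a ∘ τ) := by
    rw [hh, mul_assoc g, pmGL_mul_ptGL, Function.comp_assoc, Equiv.self_comp_symm, Function.comp_id]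
  have hk : spU j (h * ptGL (a ∘ τ)) =
      Side.kronGL (C * ptGL (fun x : {x // x ≠ j} => (a ∘ τ) x.1)) (N * (a ∘ τ) j) := by
    rw [map_mul, ← kronGL_mul]
    congr 1
    exact Units.ext (by rw [coe_spU, coe_ptGL, sp_pt]; rfl)
  have hP : C * ptGL (fun x : {x // x ≠ j} => (a ∘ τ) x.1) ∈ proj M j := by
    refine ⟨N * (a ∘ τ) j, ?_⟩
    rw [← hk, ← hge]
    exact (spU_mem_iff j _).2 (mul_mem hg ha)
  rcases hIH {x // x ≠ j} (by rw [Fintype.card_subtype_compl, Fintype.card_subtype_eq]; omega) (proj M j)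
    (proj_setting S hι j) with hle | hfull
  · have h1 := mem_stab_of_kron (hle hP) hk
    rw [← hge] at h1
    have := mul_mem h1 (inv_mem (mul_mem (ptGL_mem_stab a) (pmGL_mem_stab τ)))
    rwa [mul_inv_cancel_right] at this
  · exact absurd (good_of_full S hι j hfull) hG

end Cfsg.Agent.Lib.TensorPowerMax.BlockTo
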