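import Cfsg.Agent.Lib.TensorPowerMax.BlockTo

/-!
Root groups fix only the base coset, and the consequence for the intersection of a moved block with the
kernel of a contraction.
-/

set_option autoImplicit false
set_option linter.unusedSectionVars false

namespace Cfsg.Agent.Lib.TensorPowerMax.Fixed

open Matrix
open Cfsg.Agent.Lib.Subspaces.Transvection Cfsg.Agent.Lib.Subspaces.FormVec
  Cfsg.Agent.Lib.TensorPowerMax.Basic Cfsg.Agent.Lib.TensorPowerMax.Split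
  Cfsg.Agent.Lib.TensorPowerMax.BlockTo

variable {ι : Type} [Fintype ι] [DecidableEq ι] {m : ℕ} {F : Type*} [Field F]

local notation "A1" => Matrix (Fin m) (Fin m) F
local notation "Big" => Matrix (ι → Fin m) (ι → Fin m) F
local notation "GG" => GL (ι → Fin m) F
local notation "W1" => Fin m → F

/-- A root element of one factor. -/
noncomputable def rt (i : ι) (v φ : Fin m → F) : GL (ι → Fin m) F := oneGL i (tv v φ)

theorem coe_rt (i : ι) {v φ : W1} (h : φ ⬝ᵥ v = 0) : (rt i v φ : Big) = 1 + oneM i (vecMulVec v φ) := by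
  rw [rt, coe_oneGL, coe_tv h, oneM_add, oneM_one]

theorem oneGL_mul (i : ι) (a b : GL (Fin m) F) : oneGL i a * oneGL i b = oneGL i (a * b) := by
  rw [oneGL, oneGL, oneGL, ← map_mul, ← Function.update_mul, one_mul]

theorem rt_zero_left (i : ι) (φ : W1) : rt (ι := ι) i 0 φ = 1 := by
  rw [rt, tv_zero_left, oneGL, Function.update_eq_self_iff.2 (by simp), map_one]

theorem rt_zero_right (i : ι) (v : W1) : rt (ι := ι) i v 0 = 1 := by
  rw [rt, tv_zero_right, oneGL, Function.update_eq_self_iff.2 (by simp), map_one]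

theorem rt_mul_center (i : ι) {v φ ψ : W1} (h : φ ⬝ᵥ v = 0) (h' : ψ ⬝ᵥ v = 0) :
    rt i v φ * rt i v ψ = rt i v (φ + ψ) := by
  rw [rt, rt, rt, oneGL_mul, tv_mul_center h h']

theorem rt_mul_axis (i : ι) {v w φ : W1} (h : φ ⬝ᵥ v = 0) (h' : φ ⬝ᵥ w = 0) :
    rt i v φ * rt i w φ = rt i (v + w) φ := by
  rw [rt, rt, rt, oneGL_mul, tv_mul_axis h h']

theorem rt_pow (i : ι) {v φ : W1} (h : φ ⬝ᵥ v = 0) (n : ℕ) : rt i v φ ^ n = rt i v ((n : F) • φ) := by
  induction n with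
  | zero => rw [pow_zero, Nat.cast_zero, zero_smul, rt_zero_right]
  | succ n ih =>
    rw [pow_succ, ih, rt_mul_center i (by rw [smul_dotProduct, h, smul_zero]) h, Nat.cast_succ, add_smul, one_smul]

theorem rt_inv (i : ι) {v φ : W1} (h : φ ⬝ᵥ v = 0) : (rt i v φ)⁻¹ = rt i v (-φ) :=
  inv_eq_of_mul_eq_one_right (by
    rw [rt_mul_center i h (by rw [neg_dotProduct, h, neg_zero]), add_neg_cancel, rt_zero_right])

theorem rt_inv_axis (i : ι) {v φ : W1} (h : φ ⬝ᵥ v = 0) : (rt i v φ)⁻¹ = rt i (-v) φ :=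
  inv_eq_of_mul_eq_one_right (by
    rw [rt_mul_axis i h (by rw [dotProduct_neg, h, neg_zero]), add_neg_cancel, rt_zero_left])

theorem rt_mem_stab (i : ι) (v φ : W1) : rt i v φ ∈ stab ι m F := oneGL_mem_stab _ _

theorem rt_mem {M : Subgroup GG} (S : Setting M) (i : ι) (v φ : W1) : rt i v φ ∈ M := S.one i _ (det_tv _ _)

/-- Conjugating a root group into the stabiliser happens only inside it. -/
theorem mem_of_conj {M : Subgroup GG} (S : Setting M) (hG : ¬ Good M) (hIH : Lower ι m F) {g : GG} (hg : g ∈ M)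
    {i : ι} (v φ : Fin 3 → W1) (hv : ∀ k, v k ≠ 0) (hφ : ∀ k, φ k ≠ 0) (ho : ∀ k, φ k ⬝ᵥ v k = 0)
    (hprod : rt i (v 0) (φ 0) * rt i (v 1) (φ 1) = rt i (v 2) (φ 2))
    (h : ∀ k, g * rt i (v k) (φ k) * g⁻¹ ∈ stab ι m F) : g ∈ stab ι m F := by
  classical
  have hm := S.hm
  have hι := S.hι
  choose a σ hx using h
  have hX : ∀ k z, ((ptGL (a k) * pmGL (σ k) : GG) : Big) *ᵥ z - z =
      (g : Big) *ᵥ (oneM i (vecMulVec (v k) (φ k)) *ᵥ (((g⁻¹ : GG) : Big) *ᵥ z)) := by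
    intro k z
    rw [← hx k, gl_mul_mulVec, gl_mul_mulVec, coe_rt i (ho k), add_mulVec, one_mulVec, mulVec_add, gl_mulVec_inv,
      add_sub_cancel_left]
  have hsq : ∀ k z, ((ptGL (a k) * pmGL (σ k) : GG) : Big) *ᵥ (((ptGL (a k) * pmGL (σ k) : GG) : Big) *ᵥ z) + z =
      (2 : F) • (((ptGL (a k) * pmGL (σ k) : GG) : Big) *ᵥ z) := by
    intro k z
    have h1 := hX k (((ptGL (a k) * pmGL (σ k) : GG) : Big) *ᵥ z - z)
    have h2 : ((ptGL (a k) * pmGL (σ k) : GG) : Big) *ᵥ (((ptGL (a k) * pmGL (σ k) : GG) : Big) *ᵥ z - z) -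
        (((ptGL (a k) * pmGL (σ k) : GG) : Big) *ᵥ z - z) = 0 := by
      rw [h1, hX k z, gl_inv_mulVec, oneM_mulVec, oneM_mulVec, ctr_ins, ho k, zero_smul, map_zero, mulVec_zero]
    rw [mulVec_sub] at h2
    linear_combination (norm := module) h2
  have hbase : ∃ k, σ k = 1 := by
    by_cases h2 : (2 : F) = 0
    · have hs : ∀ k, σ k = 1 ∨ Equiv.Perm.sign (σ k) = -1 := by
        intro k
        have hblk : Module.finrank F ((block i (v k)).map (Matrix.mulVecLin (g : Big))) ≤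
            m ^ (Fintype.card ι - 1) := by
          rw [← finrank_block (j := i) (hv k)]; exact Submodule.finrank_map_le _ _
        refine Roots.perm_swap hm ?_ hblk fun z => ⟨_, ?_, (hX k z).symm⟩
        · refine gl_ext fun z => ?_
          rw [gl_mul_mulVec, Units.val_one, one_mulVec]
          have := hsq k z
          rw [h2, zero_smul, add_eq_zero_iff_eq_neg] at this
          rw [this, ← neg_one_smul F z, show (-1 : F) = 1 by linear_combination -h2, one_smul]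
        · rw [oneM_mulVec]; exact LinearMap.mem_range_self _ _
      by_contra hc
      push Not at hc
      have h3 : ptGL (a 0) * pmGL (σ 0) * (ptGL (a 1) * pmGL (σ 1)) = ptGL (a 2) * pmGL (σ 2) := by
        rw [← hx 0, ← hx 1, ← hx 2, ← hprod]; group
      rw [tw_mul] at h3
      have h4 : σ 0 * σ 1 = σ 2 := by
        have h5 : ptGL ((a 2)⁻¹ * (a 0 * a 1 ∘ (σ 0).symm)) * pmGL (σ 0 * σ 1) = pmGL (σ 2) := by
          rw [map_mul ptGL, map_inv, mul_assoc, h3, inv_mul_cancel_left]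
        have h6 : ptGL ((a 2)⁻¹ * (a 0 * a 1 ∘ (σ 0).symm)) * pmGL (σ 0 * σ 1 * (σ 2)⁻¹) = 1 := by
          rw [map_mul pmGL, ← mul_assoc, h5, map_inv, mul_inv_cancel]
        exact mul_inv_eq_one.1 (Roots.tw_eq_one hm h6).1
      have h5 := congrArg Equiv.Perm.sign h4
      rw [map_mul, (hs 0).resolve_left (hc 0), (hs 1).resolve_left (hc 1), (hs 2).resolve_left (hc 2)] at h5
      exact absurd h5 (by decide)
    · exact ⟨0, Roots.perm_two_ne hm h2 (hsq 0)⟩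
  obtain ⟨k, hk⟩ := hbase
  have hblk : Module.finrank F ((block i (v k)).map (Matrix.mulVecLin (g : Big))) ≤ m ^ (Fintype.card ι - 1) := by
    rw [← finrank_block (j := i) (hv k)]; exact Submodule.finrank_map_le _ _
  obtain ⟨j, w, θ, hj⟩ := Roots.base_root hm (by omega) (a := a k) hblk fun z => by
    refine ⟨_, ?_, ((hX k z).symm.trans ?_)⟩
    · rw [oneM_mulVec]; exact LinearMap.mem_range_self _ _
    · rw [hk, map_one, mul_one, coe_ptGL]
  have hXj : ∀ z, (g : Big) *ᵥ (oneM i (vecMulVec (v k) (φ k)) *ᵥ (((g⁻¹ : GG) : Big) *ᵥ z)) = ins j w (ctr j θ z) := by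
    intro z
    rw [← hX, hk, map_one, mul_one, coe_ptGL, hj, add_mulVec, one_mulVec, add_sub_cancel_left, oneM_mulVec]
  obtain ⟨y, hy⟩ := exists_dot_eq_one (hφ k)
  rw [dotProduct_comm] at hy
  have hgz : ∀ u, (g : Big) *ᵥ ins i (v k) u = ins j w (ctr j θ ((g : Big) *ᵥ ins i y u)) := by
    intro u
    rw [← hXj, gl_inv_mulVec, oneM_mulVec, ctr_ins, hy, one_smul]
  have hw : w ≠ 0 := by
    intro e
    have h0 := hgz (fun _ => 1)
    rw [e, show ins (F := F) j (0 : W1) = 0 from LinearMap.ext fun u => funext fun x => mul_zero _,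
      LinearMap.zero_apply, ← mulVec_zero (g : Big)] at h0
    have h1 := ins_injective (hv k) ((gl_mulVec_injective g h0).trans (map_zero _).symm)
    exact one_ne_zero (congrFun h1 fun _ => ⟨0, by omega⟩)
  exact mem_of_block S hG hIH hg (hv k) hw fun z hz => by
    obtain ⟨u, rfl⟩ := hz
    rw [hgz]; exact LinearMap.mem_range_self _ _

/-- A centre root group. -/
def Ac (i : ι) (v : Fin m → F) : Subgroup (GL (ι → Fin m) F) where
  carrier := {x | ∃ φ, φ ⬝ᵥ v = 0 ∧ x = rt i v φ}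
  one_mem' := ⟨0, zero_dotProduct _, (rt_zero_right i v).symm⟩
  mul_mem' := by
    rintro _ _ ⟨φ, h, rfl⟩ ⟨ψ, h', rfl⟩
    exact ⟨φ + ψ, by rw [add_dotProduct, h, h', add_zero], rt_mul_center i h h'⟩
  inv_mem' := by
    rintro _ ⟨φ, h, rfl⟩
    exact ⟨-φ, by rw [neg_dotProduct, h, neg_zero], rt_inv i h⟩

/-- An axis root group. -/
def Ax (i : ι) (φ : Fin m → F) : Subgroup (GL (ι → Fin m) F) where
  carrier := {x | ∃ v, φ ⬝ᵥ v = 0 ∧ x = rt i v φ}
  one_mem' := ⟨0, dotProduct_zero _, (rt_zero_left i φ).symm⟩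
  mul_mem' := by
    rintro _ _ ⟨v, h, rfl⟩ ⟨w, h', rfl⟩
    exact ⟨v + w, by rw [dotProduct_add, h, h', add_zero], rt_mul_axis i h h'⟩
  inv_mem' := by
    rintro _ ⟨v, h, rfl⟩
    exact ⟨-v, by rw [dotProduct_neg, h, neg_zero], rt_inv_axis i h⟩

theorem exists_two_orth (hm : 3 ≤ m) (v : W1) :
    ∃ φ ψ : W1, φ ≠ 0 ∧ ψ ∉ Submodule.span F {φ} ∧ φ ⬝ᵥ v = 0 ∧ ψ ⬝ᵥ v = 0 := by
  obtain ⟨φ, hφ0, hφ⟩ := Side.Side.exists_ne_orth (F := F) ![v] (by omega : 1 < m)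
  obtain ⟨ψ, hψ, hψv⟩ := exists_common_zero_not_mem (Submodule.span F {φ}) ![v] (by
    have : Module.finrank F (Submodule.span F {φ}) ≤ 1 := (finrank_span_le_card _).trans (by simp)
    rw [Fintype.card_fin]; omega)
  exact ⟨φ, ψ, hφ0, hψ, hφ 0, by rw [dotProduct_comm]; exact hψv 0⟩

theorem add_ne_zero_of_not_span {φ ψ : W1} (h : ψ ∉ Submodule.span F {φ}) : φ + ψ ≠ 0 := fun e => by
  rw [add_eq_zero_iff_eq_neg] at e
  exact h (Submodule.mem_span_singleton.2 ⟨-1, by rw [neg_one_smul, e, neg_neg]⟩)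

section

variable {M : Subgroup (GL (ι → Fin m) F)} (S : Setting M) (hG : ¬ Good M) (hIH : Lower ι m F)
include S hG hIH

theorem only_center {i : ι} {v : W1} (hv : v ≠ 0) {g : GG} (hg : g ∈ M)
    (h : ∀ x ∈ Ac i v, g * x * g⁻¹ ∈ stab ι m F) : g ∈ stab ι m F := by
  obtain ⟨φ, ψ, hφ0, hψ, hφv, hψv⟩ := exists_two_orth S.hm v
  have hψ0 : ψ ≠ 0 := fun e => hψ (e ▸ Submodule.zero_mem _)
  refine mem_of_conj S hG hIH hg (i := i) (fun _ => v) ![φ, ψ, φ + ψ] (fun _ => hv) ?_ ?_ ?_ fun k => h _ ?_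
  · intro k; fin_cases k <;> simp [hφ0, hψ0, add_ne_zero_of_not_span hψ]
  · intro k; fin_cases k <;> simp [hφv, hψv, add_dotProduct]
  · exact rt_mul_center i hφv hψv
  · refine ⟨_, ?_, rfl⟩
    fin_cases k <;> simp [hφv, hψv, add_dotProduct]

theorem only_axis {i : ι} {φ : W1} (hφ : φ ≠ 0) {g : GG} (hg : g ∈ M)
    (h : ∀ x ∈ Ax i φ, g * x * g⁻¹ ∈ stab ι m F) : g ∈ stab ι m F := by
  obtain ⟨v, w, hv0, hw, hvφ, hwφ⟩ := exists_two_orth S.hm φ
  rw [dotProduct_comm] at hvφ hwφ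
  have hw0 : w ≠ 0 := fun e => hw (e ▸ Submodule.zero_mem _)
  refine mem_of_conj S hG hIH hg (i := i) ![v, w, v + w] (fun _ => φ) ?_ (fun _ => hφ) ?_ ?_ fun k => h _ ?_
  · intro k; fin_cases k <;> simp [hv0, hw0, add_ne_zero_of_not_span hw]
  · intro k; fin_cases k <;> simp [hvφ, hwφ, dotProduct_add]
  · exact rt_mul_axis i hvφ hwφ
  · refine ⟨_, ?_, rfl⟩
    fin_cases k <;> simp [hvφ, hwφ, dotProduct_add]

/-- A moved block meets the kernel of a contraction inside one block. -/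
theorem key [Finite F] {g : GG} (hg : g ∈ M) {i : ι} {v : W1} (hv : v ≠ 0) {j : ι} {φ : W1} (hφ : φ ≠ 0) :
    ∃ (i' : ι) (w' : W1), w' ≠ 0 ∧
      (block i v).map (Matrix.mulVecLin (g : Big)) ⊓ LinearMap.ker (ctr j φ) ≤ block i' w' := by
  classical
  set Z := (block i v).map (Matrix.mulVecLin (g : Big)) ⊓ LinearMap.ker (ctr j φ)
  let N : Subgroup GG :=
    { carrier := {x | x ∈ M ∧ ∀ z ∈ Z, (x : Big) *ᵥ z = z}
      one_mem' := ⟨M.one_mem, fun z _ => by rw [Units.val_one, one_mulVec]⟩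
      mul_mem' := fun {x y} hx hy => ⟨M.mul_mem hx.1 hy.1, fun z hz => by
        rw [gl_mul_mulVec, hy.2 z hz, hx.2 z hz]⟩
      inv_mem' := fun {x} hx => ⟨M.inv_mem hx.1, fun z hz => by
        conv_lhs => rw [← hx.2 z hz, gl_inv_mulVec]⟩ }
  have hNM : N ≤ M := fun x hx => hx.1
  have hAN : Ax j φ ≤ N := by
    rintro _ ⟨u, hu, rfl⟩
    refine ⟨rt_mem S _ _ _, fun z hz => ?_⟩
    rw [coe_rt j hu, add_mulVec, one_mulVec, oneM_mulVec, show ctr j φ z = 0 from hz.2, map_zero, add_zero]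
  let B : Subgroup GG := (Ac i v).map (MulAut.conj g).toMonoidHom
  have hBN : B ≤ N := by
    rintro _ ⟨_, ⟨θ, hθ, rfl⟩, rfl⟩
    refine ⟨M.mul_mem (M.mul_mem hg (rt_mem S _ _ _)) (M.inv_mem hg), fun z hz => ?_⟩
    obtain ⟨⟨_, ⟨u, rfl⟩, rfl⟩, -⟩ := hz
    show ((g * rt i v θ * g⁻¹ : GG) : Big) *ᵥ ((g : Big) *ᵥ ins i v u) = (g : Big) *ᵥ ins i v u
    rw [gl_mul_mulVec, gl_mul_mulVec, gl_inv_mulVec, coe_rt i hθ, add_mulVec, one_mulVec, oneM_mulVec, ctr_ins,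
      hθ, zero_smul, map_zero, add_zero]
  obtain ⟨p, hp⟩ := CharP.exists F
  haveI : Fact p.Prime := ⟨(CharP.char_is_prime_or_zero F p).resolve_right (CharP.char_ne_zero_of_finite F p)⟩
  have hpC : ∀ (l : ι) (u θ : W1), θ ⬝ᵥ u = 0 → rt l u θ ^ p = 1 := fun l u θ h => by
    rw [rt_pow l h, CharP.cast_eq_zero, zero_smul, rt_zero_right]
  have hAp : ∀ x ∈ Ax j φ, x ^ p = 1 := by rintro _ ⟨u, hu, rfl⟩; exact hpC _ _ _ hu
  have hBp : ∀ x ∈ B, x ^ p = 1 := by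
    rintro _ ⟨_, ⟨θ, hθ, rfl⟩, rfl⟩
    rw [← map_pow, hpC _ _ _ hθ, map_one]
  have hPG : ∀ H : Subgroup GG, (∀ x ∈ H, x ^ p = 1) → ∀ K : Subgroup GG, IsPGroup p (H.subgroupOf K) :=
    fun H hH K => fun x => ⟨1, Subtype.ext (Subtype.ext (by
      rw [pow_one, Subgroup.coe_pow, Subgroup.coe_pow]; exact hH _ x.2))⟩
  obtain ⟨P, hP⟩ := (hPG _ hAp N).exists_le_sylow
  obtain ⟨Q, hQ⟩ := (hPG _ hBp N).exists_le_sylow
  obtain ⟨n, hn⟩ := MulAction.exists_smul_eq N Q P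
  -- the action on the cosets of the stabiliser part
  let T : Subgroup M := (stab ι m F).subgroupOf M
  have hfix : ∀ (a c : M), a • (c : M ⧸ T) = (c : M ⧸ T) ↔ (c : GG)⁻¹ * (a : GG)⁻¹ * (c : GG) ∈ stab ι m F := by
    intro a c
    show ((a * c : M) : M ⧸ T) = _ ↔ _
    rw [QuotientGroup.eq, Subgroup.mem_subgroupOf]
    simp [mul_assoc]
  let PM : Subgroup M := (P.1.map N.subtype).subgroupOf M
  have hPMp : IsPGroup p PM := by
    intro x
    obtain ⟨⟨y, hy⟩⟩ : Nonempty {y : N // y ∈ P.1 ∧ (y : GG) = ((x : M) : GG)} := by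
      obtain ⟨y, hy, hyx⟩ := x.2
      exact ⟨⟨y, hy, hyx⟩⟩
    obtain ⟨k, hk⟩ := P.isPGroup' ⟨y, hy.1⟩
    refine ⟨k, Subtype.ext (Subtype.ext ?_)⟩
    have h1 := congrArg (fun z : P.1 => ((z : N) : GG)) hk
    simp only [Subgroup.coe_pow, Subgroup.coe_one] at h1 ⊢
    rw [← hy.2, h1]
  let AM : Subgroup M := (Ax j φ).subgroupOf M
  have hAMfix : ∀ c : M, (c : M ⧸ T) ∈ MulAction.fixedPoints AM (M ⧸ T) → (c : GG) ∈ stab ι m F := by
    intro c hc
    refine inv_mem_iff.1 (only_axis S hG hIH hφ (M.inv_mem c.2) (i := j) fun x hx => ?_)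
    rw [inv_inv]
    have := (hfix ⟨x⁻¹, inv_mem (hNM (hAN hx))⟩ c).1
      (hc ⟨⟨x⁻¹, inv_mem (hNM (hAN hx))⟩, Subgroup.mem_subgroupOf.2 (inv_mem hx)⟩)
    simpa using this
  haveI : Finite (M ⧸ T) := inferInstance
  have hAfixed : MulAction.fixedPoints AM (M ⧸ T) = {((1 : M) : M ⧸ T)} := by
    refine Set.eq_singleton_iff_unique_mem.2 ⟨fun x => ?_, fun q hq => ?_⟩
    · refine (hfix x.1 1).2 ?_
      obtain ⟨u, hu, hxu⟩ := (x.2 : ((x : M) : GG) ∈ Ax j φ)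
      rw [OneMemClass.coe_one, inv_one, one_mul, mul_one, inv_mem_iff]
      exact Set.mem_of_eq_of_mem hxu (rt_mem_stab _ _ _)
    · induction q using QuotientGroup.induction_on with
      | _ c => exact QuotientGroup.eq.2 (Subgroup.mem_subgroupOf.2 (by simpa using inv_mem (hAMfix c hq)))
  have hAMp : IsPGroup p AM := hPG _ hAp M
  have hcard := hAMp.card_modEq_card_fixedPoints (M ⧸ T)
  rw [hAfixed, Nat.card_coe_set_eq, Set.ncard_singleton] at hcard
  have hcard2 := (hPMp.card_modEq_card_fixedPoints (M ⧸ T)).symm.trans hcard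
  have hne : (MulAction.fixedPoints PM (M ⧸ T)).Nonempty := by
    rw [← Set.nonempty_coe_sort]
    refine (Nat.card_pos_iff.1 ?_).1
    rw [Nat.pos_iff_ne_zero]
    intro h0
    rw [h0] at hcard2
    have hp2 := (Fact.out : p.Prime).one_lt
    have := hcard2
    rw [Nat.ModEq, Nat.zero_mod, Nat.one_mod_eq_one.2 (by omega)] at this
    exact zero_ne_one this
  obtain ⟨q, hq⟩ := hne
  induction q using QuotientGroup.induction_on with
  | _ c =>
    have hmemP : ∀ y : N, y ∈ P.1 → (c : GG)⁻¹ * (y : GG)⁻¹ * (c : GG) ∈ stab ι m F := fun y hy =>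
      (hfix ⟨y, hNM y.2⟩ c).1 (hq ⟨⟨y, hNM y.2⟩, Subgroup.mem_subgroupOf.2 ⟨y, hy, rfl⟩⟩)
    have hc : (c : GG) ∈ stab ι m F := hAMfix c fun x => by
      obtain ⟨x, hx⟩ := x
      exact hq ⟨x, Subgroup.mem_subgroupOf.2 ⟨⟨x, hAN hx⟩, hP (Subgroup.mem_subgroupOf.2 hx), rfl⟩⟩
    have hh : ((n : GG) * g)⁻¹ * (c : GG) ∈ stab ι m F := by
      refine inv_mem_iff.1 (only_center S hG hIH hv (M.inv_mem (M.mul_mem (M.inv_mem (M.mul_mem (hNM n.2) hg)) c.2))
        (i := i) fun x hx => ?_)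
      have hxB : g * x⁻¹ * g⁻¹ ∈ B := ⟨x⁻¹, inv_mem hx, rfl⟩
      have h1 : n * ⟨g * x⁻¹ * g⁻¹, hBN hxB⟩ * n⁻¹ ∈ P.1 := by
        rw [← hn]
        exact Subgroup.smul_mem_pointwise_smul _ (MulAut.conj n) _ (hQ (Subgroup.mem_subgroupOf.2 hxB))
      have h2 := hmemP _ h1
      convert h2 using 1
      simp only [Subgroup.coe_mul, Subgroup.coe_inv]
      group
    have hng : (n : GG) * g ∈ stab ι m F := by
      have := mul_mem hc (inv_mem hh)
      simpa [mul_assoc] using this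
    obtain ⟨a, σ, haσ⟩ := hng
    refine ⟨σ i, (a (σ i) : A1) *ᵥ v, gl_ne_zero _ hv, fun z hz => ?_⟩
    have hz1 : z ∈ (block i v).map (Matrix.mulVecLin (g : Big)) := hz.1
    obtain ⟨u, hu, rfl⟩ := hz1
    have h1 := Roots.tw_mulVec_block a σ hv hu
    rw [← haσ, gl_mul_mulVec] at h1
    rwa [show (g : Big) *ᵥ u = Matrix.mulVecLin (g : Big) u from rfl, n.2.2 _ hz] at h1

end

end Cfsg.Agent.Lib.TensorPowerMax.Fixed
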