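import Cfsg.Agent.Lib.TensorPowerMax.Rigid

/-!
The stabiliser of a tensor power decomposition is maximal in the special linear group.
-/

set_option autoImplicit false
set_option linter.unusedSectionVars false

namespace Cfsg.Agent.Lib.TensorPowerMax.Main

open Matrix Kronecker
open Cfsg.Agent.Lib.Subspaces.Transvection
  Cfsg.Agent.Lib.TensorPowerMax.Basic Cfsg.Agent.Lib.TensorPowerMax.Split

variable {ι : Type} [Fintype ι] [DecidableEq ι] {m : ℕ} {F : Type*} [Field F]

local notation "A1" => Matrix (Fin m) (Fin m) F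
local notation "Big" => Matrix (ι → Fin m) (ι → Fin m) F
local notation "GG" => GL (ι → Fin m) F

theorem det_sp (j : ι) (X : Big) : (sp j X).det = X.det := Matrix.det_reindexAlgEquiv F F (Basic.split j) X

theorem det_oneGL (j : ι) (b : GL (Fin m) F) :
    (oneGL j b : Big).det = (b : A1).det ^ (m ^ (Fintype.card ι - 1)) := by
  rw [← det_sp j, coe_oneGL, sp_oneM_self, det_kronecker, det_one, one_pow, one_mul, Roots.card_rest]

theorem exists_det_swap (hm : 3 ≤ m) (hι : 3 ≤ Fintype.card ι) (p q : ι) :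
    ∃ a : ι → GL (Fin m) F, ((ptGL a * pmGL (Equiv.swap p q) : GG) : Big).det = 1 := by
  classical
  set σ := Equiv.swap p q
  set d := (pm (F := F) (m := m) σ).det
  have hd : d * d = 1 := by
    rw [← det_mul, pm_mul, Equiv.swap_mul_self, pm_one, det_one]
  have heven : Even m → d = 1 := by
    intro he
    obtain ⟨k, -, hk⟩ := Finset.exists_mem_notMem_of_card_lt_card
      (show ({p, q} : Finset ι).card < (Finset.univ : Finset ι).card by
        rw [Finset.card_univ]; exact lt_of_le_of_lt Finset.card_le_two (by omega))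
    simp only [Finset.mem_insert, Finset.mem_singleton, not_or] at hk
    have hfix : σ k = k := Equiv.swap_apply_of_ne_of_ne hk.1 hk.2
    rw [show d = (sp k (pm (F := F) (m := m) σ)).det from (det_sp k _).symm, sp_pm k σ (fix_iff hfix),
      det_kronecker, det_one, one_pow, mul_one, Fintype.card_fin]
    obtain ⟨r, rfl⟩ := he
    rw [← two_mul, pow_mul, sq, ← det_mul, pm_mul]
    have hsq : (σ.subtypePerm (p := fun i => i ≠ k) fun i => (fix_iff hfix i).symm) *
        (σ.subtypePerm (p := fun i => i ≠ k) fun i => (fix_iff hfix i).symm) = 1 :=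
      Equiv.ext fun i => Subtype.ext (Equiv.swap_apply_self p q i.1)
    rw [hsq, pm_one, det_one, one_pow]
  set o : Fin m := ⟨0, by omega⟩
  have hDet : (Matrix.diagonal (Function.update (1 : Fin m → F) o d)).det = d := by
    rw [det_diagonal, prod_update]
    simp
  have hd0 : d ≠ 0 := fun e => by rw [e, mul_zero] at hd; exact zero_ne_one hd
  set b := GeneralLinearGroup.mkOfDetNeZero (Matrix.diagonal (Function.update (1 : Fin m → F) o d))
    (by rw [hDet]; exact hd0)
  refine ⟨Function.update 1 p b, ?_⟩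
  rw [Units.val_mul, det_mul]
  show (oneGL p b : Big).det * d = 1
  rw [det_oneGL, show (b : A1).det = d from hDet]
  rcases Nat.even_or_odd m with he | ho
  · rw [heven he, one_pow, one_mul]
  · obtain ⟨r, hr⟩ : Odd (m ^ (Fintype.card ι - 1)) := ho.pow
    rw [hr, pow_succ, pow_mul, sq, hd, one_pow, one_mul, hd]

theorem exists_det (hm : 3 ≤ m) (hι : 3 ≤ Fintype.card ι) (σ : Equiv.Perm ι) :
    ∃ a : ι → GL (Fin m) F, ((ptGL a * pmGL σ : GG) : Big).det = 1 := by
  induction σ using Equiv.Perm.swap_induction_on with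
  | one => exact ⟨1, by rw [map_one, map_one, mul_one, Units.val_one, det_one]⟩
  | swap_mul f x y _ ih =>
    obtain ⟨a, ha⟩ := exists_det_swap (F := F) hm hι x y
    obtain ⟨b, hb⟩ := ih
    exact ⟨_, by rw [← tw_mul, Units.val_mul, det_mul, ha, hb, one_mul]⟩

theorem setting (hm : 3 ≤ m) (hι : 2 ≤ Fintype.card ι) {M : Subgroup GG}
    (h : stab ι m F ⊓ Cfsg.Geo.specialLinear (ι → Fin m) F ≤ M) : Setting M where
  one j b hb := h ⟨oneGL_mem_stab j b, (mem_specialLinear_iff _).2 (by rw [det_oneGL, hb, one_pow])⟩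
  perm := by
    rcases Nat.lt_or_ge (Fintype.card ι) 3 with h2 | h3
    · exact Or.inl (by omega)
    · refine Or.inr fun σ => ?_
      obtain ⟨a, ha⟩ := exists_det (F := F) hm h3 σ
      exact ⟨a, h ⟨⟨a, σ, rfl⟩, (mem_specialLinear_iff _).2 ha⟩⟩
  hm := hm
  hι := hι

theorem not_le (hm : 3 ≤ m) (hι : 2 ≤ Fintype.card ι) :
    ¬ Cfsg.Geo.specialLinear (ι → Fin m) F ≤ stab ι m F := by
  intro hle
  obtain ⟨i, j, hij⟩ := Fintype.exists_pair_of_one_lt_card (α := ι) (by omega)
  set o : Fin m := ⟨0, by omega⟩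
  set l : Fin m := ⟨1, by omega⟩
  have hol : o ≠ l := by simp [o, l, Fin.ext_iff]
  set P : ι → Fin m := fun _ => o
  set Q : ι → Fin m := fun _ => l
  have hPQ : (Pi.single Q 1 : (ι → Fin m) → F) ⬝ᵥ Pi.single P 1 = 0 := by
    have : P ≠ Q := fun e => hol (congrFun e i)
    simp [this]
  obtain ⟨a, σ, h⟩ := hle (tv_mem_specialLinear (Pi.single P (1 : F)) (Pi.single Q 1))
  set e0 : Fin m → F := Pi.single o 1
  set e1 : Fin m → F := Pi.single l 1
  have h1 : (1 : F) • pv (fun _ : ι => e1) + (1 : F) • pv (fun _ : ι => e0) =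
      pv fun k => (a k : A1) *ᵥ e1 := by
    rw [← tw_mulVec a σ fun _ => e1, ← h, tv_mulVec hPQ]
    simp only [one_smul, e0, e1, pv_single (fun _ : ι => o), pv_single (fun _ : ι => l)]
    simp [P, Q]
  have hns : e0 ∉ Submodule.span F {e1} := fun e => by
    obtain ⟨c, hc⟩ := Submodule.mem_span_singleton.1 e
    have := congrFun hc o
    simp [e0, e1, hol] at this
  have hns' : e1 ∉ Submodule.span F {e0} := fun e => by
    obtain ⟨c, hc⟩ := Submodule.mem_span_singleton.1 e
    have := congrFun hc l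
    simp [e0, e1, hol.symm] at this
  exact not_pure_of_two one_ne_zero one_ne_zero h1 (fun _ => by simp [e1]) (fun _ => by simp [e0]) hij hns hns' hns

theorem maximal {F : Type*} [Field F] [Finite F] (n m t : ℕ) (hm : 3 ≤ m) (ht : 2 ≤ t)
    (e : Fin n ≃ (Fin t → Fin m)) (P : GL (Fin n) F) :
    Cfsg.Geo.IsMaximalIn (Cfsg.Geo.specialLinear (Fin n) F)
      (Cfsg.Geo.tensorWreathSubgroup m t e P ⊓ Cfsg.Geo.specialLinear (Fin n) F) := by
  classical
  set φ : GL (Fin t → Fin m) F ≃* GL (Fin n) F :=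
    (Cfsg.Geo.glReindex (F := F) e.symm).trans (MulAut.conj P) with hφ
  have hdet : ∀ x, Matrix.GeneralLinearGroup.det (φ x) = Matrix.GeneralLinearGroup.det x := fun x => by
    rw [hφ, MulEquiv.trans_apply, MulAut.conj_apply, map_mul, map_mul, map_inv, mul_comm, inv_mul_cancel_left]
    exact Units.ext (Matrix.det_reindexAlgEquiv F F e.symm (x : Matrix (Fin t → Fin m) (Fin t → Fin m) F))
  have hmemT : ∀ x : GL (Fin t → Fin m) F,
      φ x ∈ Cfsg.Geo.tensorWreathSubgroup m t e P ↔ x ∈ stab (Fin t) m F := by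
    intro x
    rw [← stab_eq]
    constructor
    · rintro ⟨y, ⟨z, hz, rfl⟩, hy⟩
      have : φ z = φ x := hy
      rwa [← φ.injective this]
    · exact fun hx => ⟨_, ⟨x, hx, rfl⟩, rfl⟩
  have hmemS : ∀ x : GL (Fin t → Fin m) F,
      φ x ∈ Cfsg.Geo.specialLinear (Fin n) F ↔ x ∈ Cfsg.Geo.specialLinear (Fin t → Fin m) F := by
    intro x
    simp only [Cfsg.Geo.specialLinear, MonoidHom.mem_ker, hdet]
  have hι : 2 ≤ Fintype.card (Fin t) := by rw [Fintype.card_fin]; exact ht
  refine ⟨lt_of_le_of_ne inf_le_right fun heq => not_le (F := F) hm hι fun x hx => ?_, fun M hM hMle => ?_⟩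
  · have h1 := (hmemS x).2 hx
    rw [← heq] at h1
    exact (hmemT x).1 h1.1
  · set M' := M.comap φ.toMonoidHom with hM'
    have hmem' : ∀ x, x ∈ M' ↔ φ x ∈ M := fun x => Iff.rfl
    have S : Setting M' := setting hm hι fun x hx => hM ⟨(hmemT x).2 hx.1, (hmemS x).2 hx.2⟩
    rcases Rigid.dichotomy S with h | h
    · refine Or.inl (le_antisymm (fun x hx => ⟨?_, hMle hx⟩) hM)
      have := (hmemT (φ.symm x)).2 (h (show φ.symm x ∈ M' by rwa [hmem', φ.apply_symm_apply]))
      rwa [φ.apply_symm_apply] at this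
    · refine Or.inr (le_antisymm hMle fun x hx => ?_)
      have := h (show φ.symm x ∈ _ from (hmemS _).1 (by rwa [φ.apply_symm_apply]))
      rwa [hmem', φ.apply_symm_apply] at this

end Cfsg.Agent.Lib.TensorPowerMax.Main
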