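import Cfsg.Agent.Lib.TensorPowerMax.Fixed
import Cfsg.Agent.Lib.Frobenius.Complement
import Cfsg.Agent.Lib.Induced.FrobeniusKernel

/-!
Without a root element with non-scalar coefficient the group stays in the stabiliser; the dichotomy.
-/

set_option autoImplicit false
set_option linter.unusedSectionVars false

namespace Cfsg.Agent.Lib.TensorPowerMax.Rigid

open Matrix
open Cfsg.Agent.Lib.Subspaces.Transvection Cfsg.Agent.Lib.Subspaces.FormVec
  Cfsg.Agent.Lib.TensorPowerMax.Basic Cfsg.Agent.Lib.TensorPowerMax.Split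
  Cfsg.Agent.Lib.TensorPowerMax.BlockTo Cfsg.Agent.Lib.TensorPowerMax.Fixed

variable {ι : Type} [Fintype ι] [DecidableEq ι] {m : ℕ} {F : Type*} [Field F]

local notation "A1" => Matrix (Fin m) (Fin m) F
local notation "Big" => Matrix (ι → Fin m) (ι → Fin m) F
local notation "GG" => GL (ι → Fin m) F
local notation "W1" => Fin m → F

/-- The image of a block. -/
def imgB (g : GL (ι → Fin m) F) (i : ι) (v : Fin m → F) : Submodule F ((ι → Fin m) → F) :=
  (block i v).map (Matrix.mulVecLin (g : Matrix (ι → Fin m) (ι → Fin m) F))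

theorem mem_span_of_pv_block {j : ι} {w : W1} (hw : w ≠ 0) {r : ι → W1} (hr : ∀ i, r i ≠ 0)
    (h : pv r ∈ block j w) : r j ∈ Submodule.span F {w} := by
  refine mem_span_of_orth fun ψ hψ => ?_
  have h1 := (mem_block_iff hw).1 h ψ hψ
  rw [ctr_pv, smul_eq_zero] at h1
  exact h1.resolve_right (pv_ne_zero fun i => hr i.1)

theorem exists_ne_orth3 (hm : 3 ≤ m) (v w : W1) : ∃ φ : W1, φ ≠ 0 ∧ φ ⬝ᵥ v = 0 ∧ φ ⬝ᵥ w = 0 := by
  obtain ⟨φ, h0, h⟩ := Side.Side.exists_ne_orth (F := F) ![v, w] (by omega : 2 < m)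
  exact ⟨φ, h0, h 0, h 1⟩

/-- An element of the stabiliser moving everything into `B + G₀` moves everything into `B`. -/
theorem root_of_near (hm : 3 ≤ m) (hι : 2 ≤ Fintype.card ι) {j : ι} {w : W1} (hw : w ≠ 0)
    {G0 : Submodule F ((ι → Fin m) → F)} (hG0 : Module.finrank F G0 ≤ m ^ (Fintype.card ι - 1))
    (hnear : ∀ φ : W1, φ ≠ 0 → φ ⬝ᵥ w = 0 → ∀ z ∈ G0, ctr j φ z = 0 → z ∈ block j w)
    {a : ι → GL (Fin m) F} {σ : Equiv.Perm ι}
    (hU : ∀ z, ((ptGL a * pmGL σ : GG) : Big) *ᵥ z - z ∈ block j w ⊔ G0) :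
    ∃ φ : W1, ((ptGL a * pmGL σ : GG) : Big) = 1 + oneM j (vecMulVec w φ) := by
  classical
  set x : GG := ptGL a * pmGL σ with hx
  have hB : ∀ (z : (ι → Fin m) → F) (φ : W1), φ ≠ 0 → φ ⬝ᵥ w = 0 → ctr j φ ((x : Big) *ᵥ z - z) = 0 →
      (x : Big) *ᵥ z - z ∈ block j w := by
    intro z φ hφ hφw hz
    obtain ⟨b, hb, g, hg, hbg⟩ := Submodule.mem_sup.1 (hU z)
    rw [← hbg, map_add, (mem_block_iff hw).1 hb φ hφw, zero_add] at hz
    rw [← hbg]
    exact add_mem hb (hnear φ hφ hφw g hg hz)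
  -- the block is preserved
  have hA : ∀ s : ι → W1, (∀ i, s i ≠ 0) → s j = w → (a j : A1) *ᵥ s (σ.symm j) ∈ Submodule.span F {w} := by
    intro s hs hsj
    have hxs : (x : Big) *ᵥ pv s = pv fun i => (a i : A1) *ᵥ s (σ.symm i) := tw_mulVec a σ s
    obtain ⟨φ, hφ0, hφw, hφr⟩ := exists_ne_orth3 hm w ((a j : A1) *ᵥ s (σ.symm j))
    have h1 : ctr j φ ((x : Big) *ᵥ pv s - pv s) = 0 := by
      rw [map_sub, hxs, ctr_pv, ctr_pv, hφr, hsj, hφw, zero_smul, zero_smul, sub_zero]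
    have h2 := add_mem (hB _ φ hφ0 hφw h1) (pv_mem_block hsj)
    rw [sub_add_cancel, hxs] at h2
    exact mem_span_of_pv_block hw (fun i => gl_ne_zero _ (hs _)) h2
  have hfix : σ j = j := by
    by_contra hne
    have hne' : σ.symm j ≠ j := fun e => hne (by
      conv_lhs => rw [← e]
      exact σ.apply_symm_apply j)
    obtain ⟨u, hu, -⟩ := exists_common_zero_not_mem
      (Submodule.span F {(((a j)⁻¹ : GL (Fin m) F) : A1) *ᵥ w}) (![] : Fin 0 → W1) (by
        have : Module.finrank F (Submodule.span F {(((a j)⁻¹ : GL (Fin m) F) : A1) *ᵥ w}) ≤ 1 :=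
          (finrank_span_le_card _).trans (by simp)
        rw [Fintype.card_fin]; omega)
    have hu0 : u ≠ 0 := fun e => hu (e ▸ Submodule.zero_mem _)
    have := hA (fun i => if i = j then w else u) (fun i => by split_ifs <;> assumption) (by simp)
    rw [if_neg hne'] at this
    obtain ⟨c, hc⟩ := Submodule.mem_span_singleton.1 this
    exact hu (Submodule.mem_span_singleton.2 ⟨c, by rw [← mulVec_smul, hc, gl_inv_mulVec]⟩)
  set A := (ptGL (fun i : {i // i ≠ j} => a i.1) * pmGL (restrict σ hfix) : GL ({i // i ≠ j} → Fin m) F)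
  set b := (a j : A1)
  have hins : ∀ c u, (x : Big) *ᵥ ins j c u = ins j (b *ᵥ c) (A.val *ᵥ u) := by
    intro c u
    have h := Roots.sp_mulVec j (x : Big) (ins j c u)
    have e : sp j (x : Big) = Matrix.kroneckerMap (· * ·) A.val b := by
      rw [← coe_spU, hx, spU_tw a σ hfix]; rfl
    rw [e, Roots.ins_comp] at h
    rw [show Matrix.kroneckerMap (· * ·) A.val b *ᵥ Side.tens u c = Side.tens (A.val *ᵥ u) (b *ᵥ c) from
      Side.kron_mulVec_tens A.val b u c, ← Roots.ins_comp] at h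
    ext z
    have h1 := congrFun h (Basic.split j z)
    simpa using h1.symm
  set Sw := Submodule.span F {w}
  have hSw : Module.finrank F Sw ≤ 1 := (finrank_span_le_card _).trans (by simp)
  have hctr : ∀ (φ c : W1) (u : ({i // i ≠ j} → Fin m) → F),
      ctr j φ ((x : Big) *ᵥ ins j c u - ins j c u) = (φ ⬝ᵥ (b *ᵥ c)) • (A.val *ᵥ u) - (φ ⬝ᵥ c) • u := by
    intro φ c u
    rw [hins, map_sub, ctr_ins, ctr_ins]
  haveI := Roots.rest_nonempty (ι := ι) hm j
  by_cases heig : ∃ c, c ∉ Sw ∧ ∃ μ : F, b *ᵥ c - μ • c ∈ Sw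
  · obtain ⟨c, hc, μ, hμ⟩ := heig
    obtain ⟨φ, hφ0, hφw, hφc⟩ := exists_ne_orth3 hm w c
    have hdot : ∀ θ : W1, θ ⬝ᵥ w = 0 → θ ⬝ᵥ (b *ᵥ c) = μ * (θ ⬝ᵥ c) := by
      intro θ hθ
      obtain ⟨r, hr⟩ := Submodule.mem_span_singleton.1 hμ
      have := congrArg (fun z => θ ⬝ᵥ z) hr
      simp only [dotProduct_smul, dotProduct_sub, hθ, smul_eq_mul, mul_zero] at this
      linear_combination -this
    obtain ⟨η, hη, hηc⟩ := exists_functional hc
    have hηw : η ⬝ᵥ w = 0 := hη w (Submodule.mem_span_singleton_self w)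
    have hscal : ∀ u, μ • (A.val *ᵥ u) = u := by
      intro u
      have h1 := hB (ins j c u) φ hφ0 hφw (by
        rw [hctr, hdot φ hφw, hφc, mul_zero, zero_smul, zero_smul, sub_zero])
      have h2 := (mem_block_iff hw).1 h1 η hηw
      rwa [hctr, hdot η hηw, hηc, mul_one, one_smul, sub_eq_zero] at h2
    have hμ0 : μ ≠ 0 := fun e => by
      have := congrFun (hscal fun _ => 1) (Classical.arbitrary _)
      simp [e] at this
    have hAu : ∀ u, A.val *ᵥ u = μ⁻¹ • u := fun u => by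
      conv_rhs => rw [← hscal u, inv_smul_smul₀ hμ0]
    set D : A1 := μ⁻¹ • b - 1
    have hins' : ∀ c u, (x : Big) *ᵥ ins j c u = ins j ((μ⁻¹ • b) *ᵥ c) u := by
      intro c u
      rw [hins, hAu, map_smul, smul_mulVec, ins_smul]
    have hD : ∀ c, D *ᵥ c ∈ Sw := by
      intro c
      obtain ⟨φ', hφ', hφ'w, hφ'd⟩ := exists_ne_orth3 hm w (D *ᵥ c)
      have hy : ∀ u, (x : Big) *ᵥ ins j c u - ins j c u = ins j (D *ᵥ c) u := by
        intro u
        rw [hins', sub_mulVec, one_mulVec]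
        ext z; simp [ins, mul_sub]
      have h1 := hB (ins j c fun _ => 1) φ' hφ' hφ'w (by rw [hy, ctr_ins, hφ'd, zero_smul])
      rw [hy] at h1
      refine mem_span_of_orth fun ψ hψ => ?_
      have h2 := congrFun ((mem_block_iff hw).1 h1 ψ hψ) (Classical.arbitrary _)
      rw [ctr_ins] at h2
      simpa using h2
    choose e he using fun c => Submodule.mem_span_singleton.1 (hD c)
    refine ⟨fun y => e (Pi.single y 1), ext_pv fun s => ?_⟩
    have hDv : D = vecMulVec w fun y => e (Pi.single y 1) := by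
      ext p q
      have h1 := congrFun (he (Pi.single q 1)) p
      simp only [Pi.smul_apply, smul_eq_mul, mulVec_single_one, Matrix.col_apply] at h1
      rw [vecMulVec_apply, ← h1, mul_comm]
    rw [← ins_pv j s, hins', ← hDv, add_mulVec, one_mulVec, Roots.oneM_mulVec_ins, sub_mulVec, one_mulVec]
    ext z; simp [ins]; ring
  exfalso
  push Not at heig
  obtain ⟨c, hc, -⟩ := exists_common_zero_not_mem Sw (![] : Fin 0 → W1) (by rw [Fintype.card_fin]; omega)
  set d := b *ᵥ c with hd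
  set W2 := Sw ⊔ Submodule.span F {c}
  have hd2 : d ∉ W2 := by
    intro hm2
    obtain ⟨r, hr, t, ht, hrt⟩ := Submodule.mem_sup.1 hm2
    obtain ⟨μ, rfl⟩ := Submodule.mem_span_singleton.1 ht
    exact heig c hc μ (by rw [← hd, ← hrt, add_sub_cancel_right]; exact hr)
  have hc2 : c ∉ Sw ⊔ Submodule.span F {d} := by
    intro hm2
    obtain ⟨r, hr, t, ht, hrt⟩ := Submodule.mem_sup.1 hm2
    obtain ⟨μ, rfl⟩ := Submodule.mem_span_singleton.1 ht
    by_cases hμ : μ = 0
    · rw [hμ, zero_smul, add_zero] at hrt; exact hc (hrt ▸ hr)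
    · refine hd2 ?_
      rw [show d = μ⁻¹ • c - μ⁻¹ • r by rw [← hrt, smul_add, inv_smul_smul₀ hμ]; abel]
      exact sub_mem (Submodule.smul_mem _ _ (Submodule.mem_sup_right (Submodule.mem_span_singleton_self c)))
        (Submodule.smul_mem _ _ (Submodule.mem_sup_left hr))
  obtain ⟨φc, hφc, hφcc⟩ := exists_functional hc2
  have hcw : φc ⬝ᵥ w = 0 := hφc w (Submodule.mem_sup_left (Submodule.mem_span_singleton_self w))
  have hcd : φc ⬝ᵥ d = 0 := hφc d (Submodule.mem_sup_right (Submodule.mem_span_singleton_self d))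
  rcases Nat.lt_or_ge 3 m with h4 | h3
  · obtain ⟨φ, hφ0, hφ⟩ := Side.Side.exists_ne_orth (F := F) ![w, c, d] h4
    have h1 := hB (ins j c fun _ => 1) φ hφ0 (hφ 0) (by
      rw [hctr, ← hd, show φ ⬝ᵥ d = 0 from hφ 2, show φ ⬝ᵥ c = 0 from hφ 1, zero_smul, zero_smul, sub_zero])
    have h2 := congrFun ((mem_block_iff hw).1 h1 φc hcw) (Classical.arbitrary _)
    rw [hctr, ← hd, hcd, hφcc] at h2
    simp at h2
  have hm3 : m = 3 := by omega
  obtain ⟨φd, hφd, hφdd⟩ := exists_functional hd2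
  have hdw : φd ⬝ᵥ w = 0 := hφd w (Submodule.mem_sup_left (Submodule.mem_span_singleton_self w))
  have hdc : φd ⬝ᵥ c = 0 := hφd c (Submodule.mem_sup_right (Submodule.mem_span_singleton_self c))
  have htop : W2 ⊔ Submodule.span F {d} = ⊤ := by
    refine Submodule.eq_top_of_finrank_eq ?_
    rw [Submodule.finrank_sup_span_singleton hd2, Submodule.finrank_sup_span_singleton hc,
      finrank_span_singleton hw, Module.finrank_fintype_fun_eq_card, Fintype.card_fin, hm3]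
  obtain ⟨y, hy, t, ht, hyt⟩ := Submodule.mem_sup.1 (htop ▸ Submodule.mem_top : b *ᵥ d ∈ W2 ⊔ Submodule.span F {d})
  obtain ⟨β, rfl⟩ := Submodule.mem_span_singleton.1 ht
  obtain ⟨r, hr, t', ht', hrt⟩ := Submodule.mem_sup.1 hy
  obtain ⟨α, rfl⟩ := Submodule.mem_span_singleton.1 ht'
  obtain ⟨ρ, rfl⟩ := Submodule.mem_span_singleton.1 hr
  subst hrt
  have hα : α ≠ 0 := by
    intro e
    have hdS : d ∉ Sw := fun h => hd2 (Submodule.mem_sup_left h)
    exact heig d hdS β (by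
      rw [← hyt, e, zero_smul, add_zero, add_sub_cancel_right]
      exact Submodule.smul_mem _ _ (Submodule.mem_span_singleton_self w))
  have hcbd : φc ⬝ᵥ (b *ᵥ d) = α := by
    rw [← hyt, dotProduct_add, dotProduct_add, dotProduct_smul, dotProduct_smul, dotProduct_smul, hcw, hcd, hφcc]
    simp
  have hdbd : φd ⬝ᵥ (b *ᵥ d) = β := by
    rw [← hyt, dotProduct_add, dotProduct_add, dotProduct_smul, dotProduct_smul, dotProduct_smul, hdw, hdc, hφdd]
    simp
  let R := ({i // i ≠ j} → Fin m) → F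
  let Φ : ((ι → Fin m) → F) →ₗ[F] R × R := (ctr j φc).prod (ctr j φd)
  have hΦU : ∀ z, Φ ((x : Big) *ᵥ z - z) ∈ G0.map Φ := by
    intro z
    obtain ⟨b', hb', g, hg, hbg⟩ := Submodule.mem_sup.1 (hU z)
    refine ⟨g, hg, ?_⟩
    rw [← hbg, map_add, show Φ b' = 0 from Prod.ext ((mem_block_iff hw).1 hb' _ hcw)
      ((mem_block_iff hw).1 hb' _ hdw), zero_add]
  let L1 : R →ₗ[F] R × R := (-LinearMap.id).prod (Matrix.mulVecLin A.val)
  have hL1 : ∀ u, L1 u = Φ ((x : Big) *ᵥ ins j c u - ins j c u) := by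
    intro u
    refine Prod.ext ?_ ?_
    · show -u = ctr j φc _
      rw [hctr, ← hd, hcd, hφcc, zero_smul, one_smul, zero_sub]
    · show A.val *ᵥ u = ctr j φd _
      rw [hctr, ← hd, hφdd, hdc, one_smul, zero_smul, sub_zero]
  have heq : LinearMap.range L1 = G0.map Φ := by
    refine Submodule.eq_of_le_of_finrank_le ?_ ?_
    · rintro _ ⟨u, rfl⟩
      rw [hL1]; exact hΦU _
    · rw [LinearMap.finrank_range_of_inj (fun u u' h => neg_injective (congrArg Prod.fst h)),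
        Module.finrank_fintype_fun_eq_card, Roots.card_rest]
      exact (Submodule.finrank_map_le _ _).trans hG0
  have hquad : ∀ u : R, A.val *ᵥ (A.val *ᵥ u) = (-(β / α)) • (A.val *ᵥ u) + (1 / α) • u := by
    intro u
    obtain ⟨u', hu'⟩ : Φ ((x : Big) *ᵥ ins j d u - ins j d u) ∈ LinearMap.range L1 := heq ▸ hΦU _
    have h1 : -u' = α • (A.val *ᵥ u) := by
      refine (congrArg Prod.fst hu').trans ?_
      show ctr j φc _ = _
      rw [hctr, hcbd, hcd, zero_smul, sub_zero]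
    have h2 : A.val *ᵥ u' = β • (A.val *ᵥ u) - u := by
      refine (congrArg Prod.snd hu').trans ?_
      show ctr j φd _ = _
      rw [hctr, hdbd, hφdd, one_smul]
    rw [← neg_neg u', h1, mulVec_neg, mulVec_smul] at h2
    have h3 : A.val *ᵥ (A.val *ᵥ u) = α⁻¹ • (α • (A.val *ᵥ (A.val *ᵥ u))) := (inv_smul_smul₀ hα _).symm
    rw [h3, neg_eq_iff_eq_neg.1 h2]
    simp only [smul_neg, smul_sub, smul_smul, div_eq_mul_inv]
    module
  refine Nat.not_even_iff_odd.2 ?_ (Roots.even_of_quadratic A.val hquad fun c0 hc0 => ?_)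
  · rw [Roots.card_rest, hm3]; exact Odd.pow (by decide)
  have hc00 : c0 ≠ 0 := fun e => by
    rw [e] at hc0
    simp [hα] at hc0
  set lam := c0⁻¹
  have hlam : α = lam * (lam - β) := by
    simp only [lam]
    field_simp at hc0 ⊢
    linear_combination hc0
  have hv : (lam - β) • c + d ∉ Sw := fun h => hd2 (by
    rw [show d = ((lam - β) • c + d) - (lam - β) • c by abel]
    exact sub_mem (Submodule.mem_sup_left h)
      (Submodule.smul_mem _ _ (Submodule.mem_sup_right (Submodule.mem_span_singleton_self c))))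
  refine heig _ hv lam ?_
  rw [mulVec_add, mulVec_smul, ← hd, ← hyt]
  rw [show (lam - β) • d + (ρ • w + α • c + β • d) - lam • ((lam - β) • c + d) = ρ • w by
    rw [hlam]; module]
  exact Submodule.smul_mem _ _ (Submodule.mem_span_singleton_self w)

/-- The group lies in the stabiliser. -/
theorem le_stab [Finite F] {M : Subgroup GG} (S : Setting M) (hG : ¬ Good M) (hIH : Lower ι m F) :
    M ≤ stab ι m F := by
  classical
  by_contra hnot
  obtain ⟨g₀, hg₀, hg₀'⟩ := SetLike.not_le_iff_exists.1 hnot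
  have hm := S.hm
  have hι := S.hι
  obtain ⟨i₀⟩ : Nonempty ι := Fintype.card_pos_iff.1 (by omega)
  set v₀ : W1 := Pi.single ⟨0, by omega⟩ 1
  have hv₀ : v₀ ≠ 0 := by simp [v₀]
  let Conf : ℕ → Prop := fun e => ∃ g ∈ M, g ∉ stab ι m F ∧ ∃ (i j : ι) (v w : W1), v ≠ 0 ∧ w ≠ 0 ∧
    e ≤ Module.finrank F (imgB g i v ⊓ block j w : Submodule F ((ι → Fin m) → F))
  have h0 : Conf 0 := ⟨g₀, hg₀, hg₀', i₀, i₀, v₀, v₀, hv₀, hv₀, Nat.zero_le _⟩
  set e := Nat.findGreatest Conf (m ^ (Fintype.card ι - 1))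
  obtain ⟨g, hg, hgs, i, j, v, w, hv, hw, he⟩ : Conf e := Nat.findGreatest_spec (Nat.zero_le _) h0
  have hmax : ∀ (j' : ι) (w' : W1), w' ≠ 0 →
      Module.finrank F (imgB g i v ⊓ block j' w' : Submodule F ((ι → Fin m) → F)) ≤ e := by
    intro j' w' hw'
    refine Nat.le_findGreatest ?_ ⟨g, hg, hgs, i, j', v, w', hv, hw', le_rfl⟩
    rw [← finrank_block (j := j') hw']
    exact Submodule.finrank_mono inf_le_right
  set G0 := imgB g i v
  have hG0 : Module.finrank F G0 ≤ m ^ (Fintype.card ι - 1) := by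
    rw [← finrank_block (j := i) hv]; exact Submodule.finrank_map_le _ _
  have hnear : ∀ φ : W1, φ ≠ 0 → φ ⬝ᵥ w = 0 → ∀ z ∈ G0, ctr j φ z = 0 → z ∈ block j w := by
    intro φ hφ hφw z hz hz0
    obtain ⟨i', w', hw', hle⟩ := Fixed.key S hG hIH hg (i := i) hv (j := j) hφ
    have h1 : G0 ⊓ block j w ≤ G0 ⊓ LinearMap.ker (ctr j φ) :=
      le_inf inf_le_left fun y hy => LinearMap.mem_ker.2 ((mem_block_iff hw).1 hy.2 φ hφw)
    have h2 : G0 ⊓ LinearMap.ker (ctr j φ) ≤ G0 ⊓ block i' w' := le_inf inf_le_left hle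
    have h3 : Module.finrank F (G0 ⊓ LinearMap.ker (ctr j φ) : Submodule F _) ≤
        Module.finrank F (G0 ⊓ block j w : Submodule F _) :=
      ((Submodule.finrank_mono h2).trans (hmax i' w' hw')).trans he
    have h4 := Submodule.eq_of_le_of_finrank_le h1 h3
    have h5 : z ∈ G0 ⊓ block j w := by rw [h4]; exact ⟨hz, LinearMap.mem_ker.2 hz0⟩
    exact h5.2
  set U := block j w ⊔ G0
  let K : Subgroup GG :=
    { carrier := {x | x ∈ M ∧ ∀ z, (x : Big) *ᵥ z - z ∈ U}
      one_mem' := ⟨M.one_mem, fun z => by simp⟩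
      mul_mem' := fun {x y} hx hy => ⟨M.mul_mem hx.1 hy.1, fun z => by
        rw [gl_mul_mulVec, ← sub_add_sub_cancel _ ((y : Big) *ᵥ z) z]
        exact U.add_mem (hx.2 _) (hy.2 z)⟩
      inv_mem' := fun {x} hx => ⟨M.inv_mem hx.1, fun z => by
        have := U.neg_mem (hx.2 (((x⁻¹ : GG) : Big) *ᵥ z))
        rwa [gl_mulVec_inv, neg_sub] at this⟩ }
  have hN : ∀ x ∈ K, x ∈ stab ι m F → ∃ φ : W1, (x : Big) = 1 + oneM j (vecMulVec w φ) := by
    rintro x hx ⟨a, σ, rfl⟩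
    exact root_of_near hm hι hw hG0 hnear hx.2
  let N : Subgroup K := (stab ι m F).subgroupOf K
  have hTI : ∀ x : K, x ∉ N → ∀ n ∈ N, x * n * x⁻¹ ∈ N → n = 1 := by
    intro x hx n hn hn'
    by_contra hn1
    obtain ⟨φ1, hφ1⟩ := hN n.1 n.2 hn
    obtain ⟨φ2, hφ2⟩ := hN _ (x * n * x⁻¹).2 hn'
    have hφ10 : φ1 ≠ 0 := fun e0 => hn1 (Subtype.ext (Units.ext (by
      rw [hφ1, e0, vecMulVec_zero, oneM_zero, add_zero]; rfl)))
    obtain ⟨y, hy⟩ := exists_dot_eq_one hφ10
    rw [dotProduct_comm] at hy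
    refine hx (mem_of_block S hG hIH x.2.1 (i := j) (j := j) hw hw fun z hz => ?_)
    obtain ⟨u, rfl⟩ := hz
    have h1 := congrArg (fun Z => Z * ((x : GG) : Big)) hφ2
    simp only [Subgroup.coe_mul, Subgroup.coe_inv, Units.val_mul, Matrix.mul_assoc, add_mul, one_mul] at h1
    rw [← Units.val_mul (x : GG)⁻¹, inv_mul_cancel, Units.val_one, mul_one, hφ1, mul_add, mul_one] at h1
    have h2 := congrArg (fun Z : Big => Z *ᵥ ins j y u) (add_left_cancel h1)
    simp only [← mulVec_mulVec, oneM_mulVec, ctr_ins, hy, one_smul] at h2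
    show ((x : GG) : Big) *ᵥ ins j w u ∈ block j w
    rw [h2]
    exact LinearMap.mem_range_self _ _
  have hne : N ≠ ⊤ := by
    intro htop
    refine hgs (Fixed.only_center S hG hIH (i := i) hv hg fun x hx => ?_)
    obtain ⟨θ, hθ, rfl⟩ := hx
    have hK : g * rt i v θ * g⁻¹ ∈ K := ⟨M.mul_mem (M.mul_mem hg (rt_mem S _ _ _)) (M.inv_mem hg), fun z => by
      rw [gl_mul_mulVec, gl_mul_mulVec, coe_rt i hθ, add_mulVec, one_mulVec, mulVec_add, gl_mulVec_inv,
        add_sub_cancel_left, oneM_mulVec]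
      exact Submodule.mem_sup_right ⟨_, LinearMap.mem_range_self _ _, rfl⟩⟩
    exact (show (⟨_, hK⟩ : K) ∈ N from htop ▸ Subgroup.mem_top _)
  have hRK : ∀ φ : W1, φ ⬝ᵥ w = 0 → rt j w φ ∈ K := fun φ h => ⟨rt_mem S _ _ _, fun z => by
    rw [coe_rt j h, add_mulVec, one_mulVec, add_sub_cancel_left, oneM_mulVec]
    exact Submodule.mem_sup_left (LinearMap.mem_range_self _ _)⟩
  let Q : Subgroup N :=
    { carrier := {x | ∃ φ : W1, φ ⬝ᵥ w = 0 ∧ ((x : K) : GG) = rt j w φ}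
      one_mem' := ⟨0, zero_dotProduct _, by rw [rt_zero_right]; rfl⟩
      mul_mem' := by
        rintro x y ⟨φ, h, hx⟩ ⟨φ', h', hy⟩
        exact ⟨φ + φ', by rw [add_dotProduct, h, h', add_zero], by
          rw [Subgroup.coe_mul, Subgroup.coe_mul, hx, hy, rt_mul_center j h h']⟩
      inv_mem' := by
        rintro x ⟨φ, h, hx⟩
        exact ⟨-φ, by rw [neg_dotProduct, h, neg_zero], by
          rw [Subgroup.coe_inv, Subgroup.coe_inv, hx, rt_inv j h]⟩ }
  haveI : IsMulCommutative Q := ⟨⟨fun ⟨x, φ, h, hx⟩ ⟨y, φ', h', hy⟩ => by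
    apply Subtype.ext; apply Subtype.ext; apply Subtype.ext
    simp only [Subgroup.coe_mul, hx, hy, rt_mul_center j h h', rt_mul_center j h' h, add_comm]⟩⟩
  have hmemQ : ∀ φ : W1, φ ⬝ᵥ w = 0 → ∃ x : Q, (((x : N) : K) : GG) = rt j w φ := fun φ h =>
    ⟨⟨⟨⟨rt j w φ, hRK φ h⟩, rt_mem_stab j w φ⟩, φ, h, rfl⟩, rfl⟩
  have hinj : ∀ {φ ψ : W1}, φ ⬝ᵥ w = 0 → ψ ⬝ᵥ w = 0 → rt (ι := ι) j w φ = rt j w ψ → φ = ψ := by
    intro φ ψ h h' he
    have h1 := congrArg Units.val he
    rw [coe_rt j h, coe_rt j h', add_right_inj] at h1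
    refine dotProduct_eq _ _ fun y => ?_
    have h2 := congrArg (fun Z : Big => Z *ᵥ ins j y (fun _ => 1)) h1
    simp only [oneM_mulVec, ctr_ins] at h2
    have h3 := congrFun (ins_injective hw h2) fun _ => ⟨0, by omega⟩
    simpa using h3
  obtain ⟨φa, φb, hφa, hφb, ha0, hb0⟩ := exists_two_orth hm w
  obtain ⟨xa, hxa⟩ := hmemQ φa ha0
  obtain ⟨xb, hxb⟩ := hmemQ φb hb0
  have hNbot : N ≠ ⊥ := fun hb => by
    have h1 : ((xa : N) : K) = 1 := (Subgroup.eq_bot_iff_forall N).1 hb _ (xa : N).2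
    rw [h1, Subgroup.coe_one, ← rt_zero_right j w] at hxa
    exact hφa (hinj (zero_dotProduct _) ha0 hxa).symm
  have hfrob : Cfsg.IsFrobeniusComplement N := by
    rw [Cfsg.Agent.Lib.Frobenius.isFrobeniusComplement_iff]
    refine ⟨hNbot, hne, fun x hx n hn hn' => ?_⟩
    exact hTI x⁻¹ (fun h => hx (by simpa using N.inv_mem h)) n hn (by rwa [inv_inv])
  obtain ⟨C, hCn, hC, -⟩ := Cfsg.Agent.Lib.Induced.FrobeniusKernel.exists_normal_complement hTI
  haveI := hCn
  haveI : IsCyclic Q := Cfsg.Agent.Lib.Frobenius.isCyclic_of_commutative_complement hfrob hC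
  obtain ⟨gen, hgen⟩ := IsCyclic.exists_generator (α := Q)
  obtain ⟨φg, hg0, hgv⟩ := gen.2
  have hall : ∀ (φ : W1) (x : Q), φ ⬝ᵥ w = 0 → (((x : N) : K) : GG) = rt j w φ → ∃ c : F, φ = c • φg := by
    intro φ x hφ hx
    obtain ⟨n, hn⟩ := (isOfFinOrder_of_finite gen).mem_powers_iff_mem_zpowers.2 (hgen x)
    refine ⟨n, (hinj hφ (by rw [smul_dotProduct, hg0, smul_zero]) ?_)⟩
    have h1 := congrArg (fun y : Q => (((y : N) : K) : GG)) hn
    simp only [SubmonoidClass.coe_pow] at h1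
    rw [hgv, rt_pow j hg0, hx] at h1
    exact h1.symm
  obtain ⟨s, hs⟩ := hall φa xa ha0 hxa
  obtain ⟨t, ht⟩ := hall φb xb hb0 hxb
  have hs0 : s ≠ 0 := fun e0 => hφa (by rw [hs, e0, zero_smul])
  exact hφb (Submodule.mem_span_singleton.2 ⟨t * s⁻¹, by rw [ht, hs, smul_smul, inv_mul_cancel_right₀ hs0]⟩)

theorem dichotomy_aux [Finite F] (n : ℕ) : ∀ (ι : Type) [Fintype ι] [DecidableEq ι], Fintype.card ι = n →
    ∀ M : Subgroup (GL (ι → Fin m) F), Setting M →
      M ≤ stab ι m F ∨ Cfsg.Geo.specialLinear (ι → Fin m) F ≤ M := by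
  induction n using Nat.strong_induction_on with
  | _ n ih =>
    intro ι _ _ hn M S
    by_cases hG : Good M
    · exact Or.inr (S.specialLinear_le hG)
    · exact Or.inl (le_stab S hG fun κ _ _ hκ M' S' => ih _ (hn ▸ hκ) κ rfl M' S')

/-- A group containing the one-factor special linear groups and enough permutations of the factors lies in
the stabiliser or contains the special linear group. -/
theorem dichotomy [Finite F] {M : Subgroup GG} (S : Setting M) :
    M ≤ stab ι m F ∨ Cfsg.Geo.specialLinear (ι → Fin m) F ≤ M :=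
  dichotomy_aux _ ι rfl M S

end Cfsg.Agent.Lib.TensorPowerMax.Rigid
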