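import Cfsg.Agent.Lib.TensorPowerMax.Split

/-!
Elements of the tensor decomposition stabiliser whose displacement lies in a subspace of the dimension
of one block.
-/

set_option autoImplicit false
set_option linter.unusedSectionVars false

namespace Cfsg.Agent.Lib.TensorPowerMax.Roots

open Matrix Kronecker
open Cfsg.Agent.Lib.Subspaces.Transvection Cfsg.Agent.Lib.Subspaces.FormVec
  Cfsg.Agent.Lib.TensorPowerMax.Basic

variable {ι : Type} [Fintype ι] [DecidableEq ι] {m : ℕ} {F : Type*} [Field F]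

local notation "A1" => Matrix (Fin m) (Fin m) F
local notation "Big" => Matrix (ι → Fin m) (ι → Fin m) F
local notation "GG" => GL (ι → Fin m) F
local notation "W1" => Fin m → F

theorem sp_mulVec (j : ι) (X : Big) (z : (ι → Fin m) → F) :
    sp j X *ᵥ (z ∘ (split j).symm) = (X *ᵥ z) ∘ (split j).symm := by
  ext p
  simp only [Matrix.mulVec, dotProduct, sp_apply, Function.comp_apply]
  exact Fintype.sum_equiv (split j).symm _ _ fun y => rfl

theorem ins_comp (j : ι) (w : W1) (u : ({i // i ≠ j} → Fin m) → F) :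
    ins j w u ∘ (split j).symm = Side.tens u w := by
  ext p
  show u (split j ((split j).symm p)).1 * w ((split j).symm p j) = _
  rw [Equiv.apply_symm_apply, split_symm_self]
  rfl

theorem oneM_mulVec_ins (j : ι) (D : A1) (w : W1) (u : ({i // i ≠ j} → Fin m) → F) :
    oneM j D *ᵥ ins j w u = ins j (D *ᵥ w) u := by
  have h := sp_mulVec j (oneM j D) (ins j w u)
  rw [sp_oneM_self, ins_comp, Side.kron_mulVec_tens, one_mulVec, ← ins_comp] at h
  ext x
  have h1 := congrFun h (split j x)
  simpa using h1.symm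

/-- The stabiliser permutes the blocks. -/
theorem tw_mulVec_block (a : ι → GL (Fin m) F) (σ : Equiv.Perm ι) {i : ι} {v : W1} (hv : v ≠ 0)
    {z : (ι → Fin m) → F} (hz : z ∈ block i v) :
    ((ptGL a * pmGL σ : GG) : Big) *ᵥ z ∈ block (σ i) ((a (σ i) : A1) *ᵥ v) := by
  obtain ⟨ψ, hψ⟩ := exists_dot_eq_one hv
  obtain ⟨u, rfl⟩ := hz
  have h1 : oneM i (vecMulVec v ψ) *ᵥ ins i v u = ins i v u := by
    rw [oneM_mulVec, ctr_ins, hψ, one_smul]
  set g : GG := ptGL a * pmGL σ
  have h2 : (g : Big) * oneM i (vecMulVec v ψ) =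
      oneM (σ i) (vecMulVec ((a (σ i) : A1) *ᵥ v) (ψ ᵥ* (((a (σ i))⁻¹ : GL (Fin m) F) : A1))) * (g : Big) := by
    rw [← vecMulVec_mul, ← mul_vecMulVec, ← Split.tw_conj_oneM a σ i, mul_assoc, ← Units.val_mul, inv_mul_cancel,
      Units.val_one, mul_one]
  rw [← h1, mulVec_mulVec, h2, ← mulVec_mulVec, oneM_mulVec]
  exact LinearMap.mem_range_self _ _

section

variable {α : Type} [Fintype α] [DecidableEq α] {k : ℕ}

theorem kron_small (hk : 3 ≤ k) [Nonempty α] (A : GL α F) (B : GL (Fin k) F)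
    (hA : ∀ c : F, (A : Matrix α α F) ≠ c • 1) (hB : ∀ c : F, (B : Matrix (Fin k) (Fin k) F) ≠ c • 1)
    {U : Submodule F (α × Fin k → F)} (hU : Module.finrank F U ≤ Fintype.card α)
    (h : ∀ z, ((A : Matrix α α F) ⊗ₖ (B : Matrix (Fin k) (Fin k) F)) *ᵥ z - z ∈ U) : False := by
  obtain ⟨w, hw⟩ := Cfsg.Agent.Lib.TensorMax.FullAlgebra.exists_not_eigen hB
  set Bw := (B : Matrix (Fin k) (Fin k) F) *ᵥ w
  have himg : ∀ (u : α → F) (c : Fin k → F),
      Side.tens ((A : Matrix α α F) *ᵥ u) ((B : Matrix (Fin k) (Fin k) F) *ᵥ c) - Side.tens u c ∈ U :=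
    fun u c => by rw [← Side.kron_mulVec_tens]; exact h _
  let L : (α → F) →ₗ[F] (α × Fin k → F) :=
    { toFun := fun u => Side.tens ((A : Matrix α α F) *ᵥ u) Bw - Side.tens u w
      map_add' := fun x y => by rw [mulVec_add]; ext p; simp [Side.tens, add_mul]; ring
      map_smul' := fun c x => by rw [mulVec_smul]; ext p; simp [Side.tens]; ring }
  have hctr_sub : ∀ (θ : Fin k → F) (y z : α × Fin k → F),
      Side.ctr θ (y - z) = Side.ctr θ y - Side.ctr θ z := by
    intro θ y z; ext i; simp [Side.ctr, mul_sub, Finset.sum_sub_distrib]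
  have hinj : Function.Injective L := by
    rw [injective_iff_map_eq_zero]
    intro u hu
    obtain ⟨η, hη, hηw⟩ := exists_functional hw
    have h1 : Side.ctr η (L u) = 0 := by rw [hu]; ext i; simp [Side.ctr]
    simp only [L, LinearMap.coe_mk, AddHom.coe_mk] at h1
    rw [hctr_sub, Side.ctr_tens, Side.ctr_tens, hηw, hη w (Submodule.mem_span_singleton_self w), one_smul,
      zero_smul, sub_zero] at h1
    exact gl_mulVec_injective A (h1.trans (mulVec_zero _).symm)
  have hle : LinearMap.range L ≤ U := by rintro _ ⟨u, rfl⟩; exact himg u w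
  have heq : LinearMap.range L = U := Submodule.eq_of_le_of_finrank_le hle (by
    rw [LinearMap.finrank_range_of_inj hinj, Module.finrank_fintype_fun_eq_card]; exact hU)
  obtain ⟨θ, hθ0, hθ⟩ := Side.Side.exists_ne_orth (F := F) ![w, Bw] (by omega : 2 < k)
  obtain ⟨c, hc⟩ := exists_dot_eq_one hθ0
  rw [dotProduct_comm] at hc
  have hzero : ∀ u, Side.ctr θ (Side.tens ((A : Matrix α α F) *ᵥ u) ((B : Matrix (Fin k) (Fin k) F) *ᵥ c) -
      Side.tens u c) = 0 := by
    intro u
    obtain ⟨u', hu'⟩ := (heq ▸ himg u c : _ ∈ LinearMap.range L)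
    rw [← hu']
    simp only [L, LinearMap.coe_mk, AddHom.coe_mk]
    rw [hctr_sub, Side.ctr_tens, Side.ctr_tens, show θ ⬝ᵥ Bw = 0 from hθ 1, show θ ⬝ᵥ w = 0 from hθ 0, zero_smul,
      zero_smul, sub_zero]
  set s := θ ⬝ᵥ ((B : Matrix (Fin k) (Fin k) F) *ᵥ c)
  have hAu : ∀ u, s • ((A : Matrix α α F) *ᵥ u) = u := fun u => by
    have h1 := hzero u
    rwa [hctr_sub, Side.ctr_tens, Side.ctr_tens, hc, one_smul, sub_eq_zero] at h1
  by_cases hs : s = 0
  · obtain ⟨a⟩ := ‹Nonempty α›
    have := congrFun (hAu (Pi.single a 1)) a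
    simp [hs] at this
  · exact hA s⁻¹ (Matrix.mulVec_injective (funext fun u => by
      show (A : Matrix α α F) *ᵥ u = (s⁻¹ • (1 : Matrix α α F)) *ᵥ u
      rw [smul_mulVec, one_mulVec]
      conv_rhs => rw [← hAu u, inv_smul_smul₀ hs]))

end

theorem rest_nonempty (hm : 3 ≤ m) (j : ι) : Nonempty ({i // i ≠ j} → Fin m) := ⟨fun _ => ⟨0, by omega⟩⟩

theorem card_rest (j : ι) : Fintype.card ({i // i ≠ j} → Fin m) = m ^ (Fintype.card ι - 1) := by
  rw [Fintype.card_fun, Fintype.card_fin, Fintype.card_subtype_compl, Fintype.card_subtype_eq]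

/-- A base element moving little is a root element. -/
theorem base_root (hm : 3 ≤ m) (hι : 0 < Fintype.card ι) {a : ι → GL (Fin m) F} {U : Submodule F ((ι → Fin m) → F)}
    (hU : Module.finrank F U ≤ m ^ (Fintype.card ι - 1))
    (h : ∀ z, pt (fun i => (a i : A1)) *ᵥ z - z ∈ U) :
    ∃ (j : ι) (w φ : W1), pt (fun i => (a i : A1)) = 1 + oneM j (vecMulVec w φ) := by
  classical
  have honly : ∀ j, (∀ c : F, (a j : A1) ≠ c • 1) → ∀ i, i ≠ j → ∃ d : F, (a i : A1) = d • 1 := by
    intro j hj i hi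
    by_cases hres : ∃ c : F, pt (fun k : {k // k ≠ j} => (a k.1 : A1)) = c • 1
    · obtain ⟨c, hc⟩ := hres
      exact scalar_factor (a := fun k : {k // k ≠ j} => a k.1) hc ⟨i, hi⟩
    exfalso
    push Not at hres
    haveI := rest_nonempty hm j
    let R : ((ι → Fin m) → F) ≃ₗ[F] (({k // k ≠ j} → Fin m) × Fin m → F) :=
      LinearEquiv.funCongrLeft F F (split j).symm
    refine kron_small hm (ptGL fun k : {k // k ≠ j} => a k.1) (a j) hres hj
      (U := U.map R.toLinearMap) ?_ fun z => ?_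
    · rw [card_rest, LinearEquiv.finrank_map_eq]; exact hU
    · refine ⟨pt (fun i => (a i : A1)) *ᵥ (z ∘ split j) - z ∘ split j, h _, ?_⟩
      show (pt (fun i => (a i : A1)) *ᵥ (z ∘ split j) - z ∘ split j) ∘ (split j).symm = _
      have e := sp_mulVec j (pt fun i => (a i : A1)) (z ∘ split j)
      rw [sp_pt, Function.comp_assoc, Equiv.self_comp_symm, Function.comp_id] at e
      rw [coe_ptGL, e]
      funext p
      simp
  obtain ⟨j, hj⟩ : ∃ j, ∀ i, i ≠ j → ∃ d : F, (a i : A1) = d • 1 := by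
    by_cases hall : ∃ j, ∀ c : F, (a j : A1) ≠ c • 1
    · obtain ⟨j, hj⟩ := hall; exact ⟨j, honly j hj⟩
    · push Not at hall
      obtain ⟨j⟩ : Nonempty ι := Fintype.card_pos_iff.1 hι
      exact ⟨j, fun i _ => hall i⟩
  choose! d hd using hj
  set C : F := ∏ i : {i // i ≠ j}, d i.1
  set D : A1 := C • (a j : A1) - 1 with hD
  have hpt : pt (fun i => (a i : A1)) = 1 + oneM j D := by
    rw [← oneM_one j, ← oneM_add, hD, add_sub_cancel, oneM_smul]
    ext x y
    rw [Matrix.smul_apply, oneM, pt_apply, pt_apply, prod_split j, prod_split j, Function.update_self, smul_eq_mul,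
      ← mul_assoc, ← Finset.prod_mul_distrib]
    refine congrArg (· * _) (Finset.prod_congr rfl fun i _ => ?_)
    rw [hd i.1 i.2, Matrix.smul_apply, Function.update_of_ne i.2, smul_eq_mul]
    rfl
  by_cases hD0 : ∀ u, D *ᵥ u = 0
  · refine ⟨j, 0, 0, ?_⟩
    rw [hpt, show D = 0 from Matrix.mulVec_injective (funext fun u => by rw [hD0 u, zero_mulVec]),
      zero_vecMulVec]
  push Not at hD0
  obtain ⟨u1, hu1⟩ := hD0
  have hmem : ∀ u r, ins j (D *ᵥ u) r ∈ U := fun u r => by
    have := h (ins j u r)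
    rwa [hpt, add_mulVec, one_mulVec, add_sub_cancel_left, oneM_mulVec_ins] at this
  have heq : block j (D *ᵥ u1) = U := Submodule.eq_of_le_of_finrank_le
    (by rintro _ ⟨r, rfl⟩; exact hmem u1 r) (by rw [finrank_block hu1]; exact hU)
  have hspan : ∀ u, D *ᵥ u ∈ Submodule.span F {D *ᵥ u1} := by
    intro u
    by_contra hu
    obtain ⟨η, hη, hηu⟩ := exists_functional hu
    have h1 := hmem u (fun _ => 1)
    rw [← heq, mem_block_iff hu1] at h1
    have h2 := congrFun (h1 η (hη _ (Submodule.mem_span_singleton_self _))) (fun _ => ⟨0, by omega⟩)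
    rw [ctr_ins, hηu, one_smul] at h2
    simp at h2
  choose e he using fun u => Submodule.mem_span_singleton.1 (hspan u)
  refine ⟨j, D *ᵥ u1, fun b => e (Pi.single b 1), ?_⟩
  rw [hpt]
  congr 2
  ext x b
  have h1 := congrFun (he (Pi.single b 1)) x
  simp only [Pi.smul_apply, smul_eq_mul, mulVec_single_one, Matrix.col_apply] at h1
  rw [vecMulVec_apply, ← h1, mul_comm]

theorem tw_eq_one (hm : 3 ≤ m) {a : ι → GL (Fin m) F} {π : Equiv.Perm ι}
    (h : ptGL a * pmGL π = 1) : π = 1 ∧ ∀ i, ∃ d : F, (a i : A1) = d • 1 := by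
  have hπ : π = 1 := by
    by_contra hne
    obtain ⟨i, hi⟩ : ∃ i, π.symm i ≠ i := by
      by_contra hc
      push Not at hc
      exact hne (Equiv.ext fun i => π.symm.injective (by rw [Equiv.symm_apply_apply]; exact (hc i).symm))
    set u : W1 := Pi.single ⟨0, by omega⟩ 1
    have hu : u ≠ 0 := by simp [u]
    obtain ⟨z, hz, -⟩ := exists_common_zero_not_mem
      (Submodule.span F {(((a i)⁻¹ : GL (Fin m) F) : A1) *ᵥ u}) (![] : Fin 0 → W1) (by
        have : Module.finrank F (Submodule.span F {(((a i)⁻¹ : GL (Fin m) F) : A1) *ᵥ u}) ≤ 1 :=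
          (finrank_span_le_card _).trans (by simp)
        rw [Fintype.card_fin]; omega)
    set s : ι → W1 := fun k => if k = π.symm i then z else u
    have hs : ∀ k, s k ≠ 0 := fun k => by
      simp only [s]; split_ifs
      · exact fun e => hz (e ▸ Submodule.zero_mem _)
      · exact hu
    have h1 := tw_mulVec a π s
    rw [h, Units.val_one, one_mulVec] at h1
    have h2 := parallel_of_mod (j := π.symm i) (w := 0) (r := fun k => (a k : A1) *ᵥ s (π.symm k)) (s := s) hs
      (by rw [Submodule.span_singleton_eq_bot.2 rfl, Submodule.mem_bot]; exact hs _)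
      (fun ψ _ => by rw [← pv_dot, ← pv_dot, ← h1]) i (Ne.symm hi)
    simp only [s, if_true, if_neg (Ne.symm hi)] at h2
    obtain ⟨c, hc⟩ := Submodule.mem_span_singleton.1 h2
    refine hz (Submodule.mem_span_singleton.2 ⟨c, ?_⟩)
    rw [← mulVec_smul, hc, gl_inv_mulVec]
  subst hπ
  refine ⟨rfl, fun i => scalar_factor (c := 1) ?_ i⟩
  rw [map_one, mul_one] at h
  rw [← coe_ptGL, h, Units.val_one, one_smul]

theorem perm_two_ne (hm : 3 ≤ m) (h2 : (2 : F) ≠ 0) {a : ι → GL (Fin m) F} {σ : Equiv.Perm ι}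
    (h : ∀ z, ((ptGL a * pmGL σ : GG) : Big) *ᵥ (((ptGL a * pmGL σ : GG) : Big) *ᵥ z) + z =
      (2 : F) • (((ptGL a * pmGL σ : GG) : Big) *ᵥ z)) : σ = 1 := by
  by_contra hne
  obtain ⟨i, hi⟩ : ∃ i, σ.symm i ≠ i := by
    by_contra hc
    push Not at hc
    exact hne (Equiv.ext fun i => σ.symm.injective (by rw [Equiv.symm_apply_apply]; exact (hc i).symm))
  set j := σ.symm i with hjdef
  have hj : σ.symm j ≠ j := fun e => hi (σ.symm.injective e)
  set u : W1 := Pi.single ⟨0, by omega⟩ 1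
  have hu : u ≠ 0 := by simp [u]
  set p := (((a i)⁻¹ : GL (Fin m) F) : A1) *ᵥ u
  set q := (a j : A1) *ᵥ u
  obtain ⟨z, hz, -⟩ := exists_common_zero_not_mem (Submodule.span F {p} ⊔ Submodule.span F {q})
    (![] : Fin 0 → W1) (by
      have h1 : Module.finrank F (Submodule.span F {p}) ≤ 1 := (finrank_span_le_card _).trans (by simp)
      have h2 : Module.finrank F (Submodule.span F {q}) ≤ 1 := (finrank_span_le_card _).trans (by simp)
      have := Submodule.finrank_add_le_finrank_add_finrank (Submodule.span F {p}) (Submodule.span F {q})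
      rw [Fintype.card_fin]; omega)
  have hz0 : z ≠ 0 := fun e => hz (e ▸ Submodule.zero_mem _)
  have hzp : z ∉ Submodule.span F {p} := fun e => hz (Submodule.mem_sup_left e)
  have hzq : z ∉ Submodule.span F {q} := fun e => hz (Submodule.mem_sup_right e)
  set s : ι → W1 := fun k => if k = j then z else u
  have hs : ∀ k, s k ≠ 0 := fun k => by simp only [s]; split_ifs <;> assumption
  set r : ι → W1 := fun k => (a k : A1) *ᵥ s (σ.symm k)
  have h1 := h (pv s)
  rw [tw_mulVec, tw_mulVec] at h1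
  have h3 : (-1 : F) • pv s + (2 : F) • pv r = pv fun k => (a k : A1) *ᵥ r (σ.symm k) := by
    rw [← h1]; module
  have hri : r i = (a i : A1) *ᵥ z := by simp [r, s, j]
  have hrj : r j = q := by simp [r, s, q, hj]
  have hsi : s i = u := by simp [s, Ne.symm hi]
  have hsj : s j = z := by simp [s]
  refine not_pure_of_two (neg_ne_zero.2 one_ne_zero) h2 h3 hs (fun k => gl_ne_zero _ (hs _)) (i := i) (j := j)
    (Ne.symm hi) ?_ ?_ ?_
  · rw [hri, hsi]
    intro e
    obtain ⟨c, hc⟩ := Submodule.mem_span_singleton.1 e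
    exact hzp (Submodule.mem_span_singleton.2 ⟨c, by rw [← mulVec_smul, hc, gl_inv_mulVec]⟩)
  · rw [hri, hsi]
    intro e
    obtain ⟨c, hc⟩ := Submodule.mem_span_singleton.1 e
    have hc0 : c ≠ 0 := fun e0 => hu (by rw [← hc, e0, zero_smul])
    exact hzp (Submodule.mem_span_singleton.2 ⟨c⁻¹, by
      simp only [p]
      rw [← hc, mulVec_smul, gl_inv_mulVec, inv_smul_smul₀ hc0]⟩)
  · rw [hrj, hsj]
    intro e
    obtain ⟨c, hc⟩ := Submodule.mem_span_singleton.1 e
    have hc0 : c ≠ 0 := fun e0 => gl_ne_zero (a j) hu (by rw [← show c • z = (a j : A1) *ᵥ u from hc, e0, zero_smul])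
    exact hzq (Submodule.mem_span_singleton.2 ⟨c⁻¹, by rw [← hc, inv_smul_smul₀ hc0]⟩)

/-- An involution moving little swaps only two factors. -/
theorem perm_swap (hm : 3 ≤ m) {a : ι → GL (Fin m) F} {σ : Equiv.Perm ι}
    (hsq : ptGL a * pmGL σ * (ptGL a * pmGL σ) = 1) {U : Submodule F ((ι → Fin m) → F)}
    (hU : Module.finrank F U ≤ m ^ (Fintype.card ι - 1))
    (h : ∀ z, ((ptGL a * pmGL σ : GG) : Big) *ᵥ z - z ∈ U) : σ = 1 ∨ Equiv.Perm.sign σ = -1 := by
  classical
  rw [tw_mul] at hsq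
  obtain ⟨hσ2, hscal⟩ := tw_eq_one hm hsq
  by_cases h1 : σ = 1
  · exact Or.inl h1
  refine Or.inr ?_
  have hinv : ∀ x, σ (σ x) = x := fun x => by rw [← Equiv.Perm.mul_apply, hσ2, Equiv.Perm.one_apply]
  have hsymm : ∀ x, σ.symm x = σ x := fun x => by rw [Equiv.symm_apply_eq, hinv]
  obtain ⟨i, hi⟩ : ∃ i, σ i ≠ i := by
    by_contra hc
    push Not at hc
    exact h1 (Equiv.ext hc)
  by_cases h2 : ∀ k, k ≠ i → k ≠ σ i → σ k = k
  · have : σ = Equiv.swap i (σ i) := by
      ext x
      by_cases hx : x = i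
      · subst hx; rw [Equiv.swap_apply_left]
      by_cases hx' : x = σ i
      · subst hx'; rw [Equiv.swap_apply_right, hinv]
      · rw [Equiv.swap_apply_of_ne_of_ne hx hx', h2 x hx hx']
    rw [this, Equiv.Perm.sign_swap (Ne.symm hi)]
  exfalso
  push Not at h2
  obtain ⟨k, hki, hksi, hk⟩ := h2
  have hsk : σ k ≠ i ∧ σ k ≠ σ i := ⟨fun e => hksi (by rw [← e, hinv]), fun e => hki (σ.injective e)⟩
  let b : ι → GL (Fin m) F := fun x => if x = σ i then (a i)⁻¹ else if x = σ k then (a k)⁻¹ else 1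
  set T : GG := ptGL b
  set a' : ι → GL (Fin m) F := b⁻¹ * (a * b ∘ σ.symm) with ha'
  have hx' : T⁻¹ * (ptGL a * pmGL σ) * T = ptGL a' * pmGL σ := by
    rw [mul_assoc, mul_assoc, pmGL_mul_ptGL, ← map_inv, ← mul_assoc (ptGL a), ← map_mul, ← mul_assoc, ← map_mul]
  let Q : Finset ι := {i, σ i, k, σ k}
  have hQ : ∀ x ∈ Q, ∃ c : F, (a' x : A1) = c • 1 := by
    intro x hx
    simp only [Q, Finset.mem_insert, Finset.mem_singleton] at hx
    rcases hx with rfl | rfl | rfl | rfl
    · exact ⟨1, by simp [a', b, hsymm, Ne.symm hi, hsk.1.symm]⟩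
    · obtain ⟨d, hd⟩ := hscal i
      refine ⟨d, ?_⟩
      rw [Pi.mul_apply, Function.comp_apply, hsymm] at hd
      rw [← hd]
      simp [a', b, hsymm, hinv, Ne.symm hi, hsk.1.symm]
    · exact ⟨1, by simp [a', b, hsymm, hksi, hsk.2, Ne.symm hk]⟩
    · obtain ⟨d, hd⟩ := hscal k
      refine ⟨d, ?_⟩
      rw [Pi.mul_apply, Function.comp_apply, hsymm] at hd
      rw [← hd]
      simp [a', b, hsymm, hinv, hksi, hsk.2, Ne.symm hk]
  let key : Fin m → Fin m → ℕ := fun p q => p.1 * m + q.1
  let R : Finset (ι → Fin m) := Finset.univ.filter fun y => key (y i) (y k) < key (y (σ i)) (y (σ k))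
  have hR : ∀ {y}, y ∈ R ↔ key (y i) (y k) < key (y (σ i)) (y (σ k)) := by simp [R]
  have hsupp : ∀ y ∈ R, ∀ z ∈ R, (((ptGL a' * pmGL σ : GG) : Big) *ᵥ Pi.single y 1) z = 0 := by
    intro y hy z hz
    rw [← pv_single, tw_mulVec]
    by_contra hne
    have hne' : ∀ x, ((a' x : A1) *ᵥ Pi.single (y (σ.symm x)) 1) (z x) ≠ 0 := fun x e =>
      hne (Finset.prod_eq_zero (Finset.mem_univ x) e)
    have hval : ∀ x ∈ Q, z x = y (σ x) := by
      intro x hx
      obtain ⟨c, hc⟩ := hQ x hx
      have := hne' x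
      rw [hc, hsymm, smul_mulVec, one_mulVec] at this
      by_contra hzy
      simp [hzy] at this
    rw [hR] at hy hz
    rw [hval i (by simp [Q]), hval k (by simp [Q]), hval (σ i) (by simp [Q]), hval (σ k) (by simp [Q]), hinv, hinv]
      at hz
    omega
  let ext : (R → F) →ₗ[F] ((ι → Fin m) → F) :=
    { toFun := fun c y => if h : y ∈ R then c ⟨y, h⟩ else 0
      map_add' := fun x y => by funext z; by_cases hz : z ∈ R <;> simp [hz]
      map_smul' := fun c x => by funext z; by_cases hz : z ∈ R <;> simp [hz] }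
  let L : (R → F) →ₗ[F] ((ι → Fin m) → F) :=
    (Matrix.mulVecLin ((T : Big))).comp
      ((Matrix.mulVecLin ((((ptGL a' * pmGL σ : GG)) : Big) - 1)).comp ext)
  have hinj : Function.Injective L := by
    rw [injective_iff_map_eq_zero]
    intro c hc
    have h3 : (((ptGL a' * pmGL σ : GG) : Big) - 1) *ᵥ ext c = 0 :=
      gl_mulVec_injective T ((show (T : Big) *ᵥ _ = 0 from hc).trans (mulVec_zero _).symm)
    funext z
    have h4 := congrFun h3 z.1
    simp only [ext, LinearMap.coe_mk, AddHom.coe_mk, Matrix.mulVec, dotProduct, Matrix.sub_apply, Pi.zero_apply] at h4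
    have hG : ∀ y ∈ R, ((ptGL a' * pmGL σ : GG) : Big) z.1 y = 0 := fun y hy => by
      have := hsupp y hy z.1 z.2
      rwa [mulVec_single_one, Matrix.col_apply] at this
    rw [Finset.sum_eq_single z.1 (fun y _ hy => by
      by_cases hyR : y ∈ R
      · rw [hG y hyR, Matrix.one_apply_ne hy.symm, sub_zero, zero_mul]
      · rw [dif_neg hyR, mul_zero])
      (by simp), hG z.1 z.2, dif_pos z.2, Matrix.one_apply_eq, zero_sub, neg_one_mul, neg_eq_zero] at h4
    exact h4
  have hle : LinearMap.range L ≤ U := by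
    rintro _ ⟨c, rfl⟩
    show (T : Big) *ᵥ ((((ptGL a' * pmGL σ : GG) : Big) - 1) *ᵥ ext c) ∈ U
    rw [sub_mulVec, one_mulVec, mulVec_sub, ← gl_mul_mulVec, show T * (ptGL a' * pmGL σ) = ptGL a * pmGL σ * T by
      rw [← hx', ← mul_assoc, ← mul_assoc, mul_inv_cancel, one_mul], gl_mul_mulVec]
    exact h _
  have hcardR : R.card ≤ m ^ (Fintype.card ι - 1) := by
    have := Submodule.finrank_mono hle
    rw [LinearMap.finrank_range_of_inj hinj, Module.finrank_fintype_fun_eq_card, Fintype.card_coe] at this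
    omega
  set Fix : Finset (ι → Fin m) := Finset.univ.filter fun y => y i = y (σ i) ∧ y k = y (σ k)
  have hcover : (Finset.univ : Finset (ι → Fin m)) ⊆ R ∪ R.image (fun y => y ∘ σ) ∪ Fix := by
    intro y _
    rcases lt_trichotomy (key (y i) (y k)) (key (y (σ i)) (y (σ k))) with hlt | heq | hgt
    · exact Finset.mem_union_left _ (Finset.mem_union_left _ (hR.2 hlt))
    · refine Finset.mem_union_right _ (Finset.mem_filter.2 ⟨Finset.mem_univ _, ?_⟩)
      simp only [key] at heq
      have h5 := (y k).isLt; have h6 := (y (σ k)).isLt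
      have h7 : (y i).1 = (y (σ i)).1 := by
        rcases lt_trichotomy (y i).1 (y (σ i)).1 with h | h | h
        · nlinarith
        · exact h
        · nlinarith
      exact ⟨Fin.ext h7, Fin.ext (by rw [h7] at heq; omega)⟩
    · refine Finset.mem_union_left _ (Finset.mem_union_right _ (Finset.mem_image.2 ⟨y ∘ σ, hR.2 ?_, ?_⟩))
      · simpa [hinv] using hgt
      · funext x; simp [hinv]
  have hFix : Fix.card ≤ m ^ (Fintype.card ι - 2) := by
    have hcard : Fintype.card {x // ¬ (x = σ i ∨ x = σ k)} = Fintype.card ι - 2 := by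
      rw [Fintype.card_subtype_compl, Fintype.card_subtype]
      congr 1
      rw [show Finset.univ.filter (fun x => x = σ i ∨ x = σ k) = {σ i, σ k} by ext; simp,
        Finset.card_pair (Ne.symm hsk.2)]
    have := Finset.card_le_card_of_injOn (s := Fix)
      (t := (Finset.univ : Finset ({x // ¬ (x = σ i ∨ x = σ k)} → Fin m))) (fun y x => y x.1)
      (fun _ _ => Finset.mem_univ _) (fun y hy z hz he => by
        have hy' := (Finset.mem_filter.1 hy).2
        have hz' := (Finset.mem_filter.1 hz).2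
        funext x
        by_cases hxi : x = σ i
        · rw [hxi, ← hy'.1, ← hz'.1]; exact congrFun he ⟨i, by simp [Ne.symm hi, hsk.1.symm]⟩
        by_cases hxk : x = σ k
        · rw [hxk, ← hy'.2, ← hz'.2]; exact congrFun he ⟨k, by simp [hksi, Ne.symm hk]⟩
        exact congrFun he ⟨x, by simp [hxi, hxk]⟩)
    rwa [Finset.card_univ, Fintype.card_fun, Fintype.card_fin, hcard] at this
  have hN := Finset.card_le_card hcover
  rw [Finset.card_univ, Fintype.card_fun, Fintype.card_fin] at hN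
  have h3 := (Finset.card_union_le (R ∪ R.image fun y => y ∘ σ) Fix)
  have h4 := (Finset.card_union_le R (R.image fun y => y ∘ σ))
  have h5 := Finset.card_image_le (s := R) (f := fun y => y ∘ σ)
  obtain ⟨t, ht⟩ : ∃ t, Fintype.card ι = t + 2 := by
    have : ({i, σ i} : Finset ι).card ≤ Fintype.card ι := Finset.card_le_univ _
    rw [Finset.card_pair (Ne.symm hi)] at this
    exact ⟨Fintype.card ι - 2, by omega⟩
  rw [ht, show t + 2 - 1 = t + 1 from rfl] at hcardR
  rw [ht, show t + 2 - 2 = t from rfl] at hFix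
  rw [ht, pow_succ, pow_succ] at hN
  rw [pow_succ] at hcardR
  have h0 : 0 < m ^ t := Nat.pow_pos (by omega)
  nlinarith [Nat.mul_le_mul_left (m ^ t) (Nat.mul_le_mul_right m hm)]

/-- A matrix with an irreducible quadratic equation lives in even dimension. -/
theorem even_of_quadratic {α : Type} [Fintype α] [DecidableEq α] (A : Matrix α α F) {a b : F}
    (h : ∀ u : α → F, A *ᵥ (A *ᵥ u) = a • (A *ᵥ u) + b • u) (hno : ∀ c : F, c * c - a * c - b ≠ 0) :
    Even (Fintype.card α) := by
  classical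
  by_contra hodd
  have hstep : ∀ n : ℕ, ∃ W : Submodule F (α → F), (∀ w ∈ W, A *ᵥ w ∈ W) ∧ Module.finrank F W = 2 * n := by
    intro n
    induction n with
    | zero => exact ⟨⊥, fun w hw => by simp [(Submodule.mem_bot F).1 hw], finrank_bot F _⟩
    | succ n ih =>
      obtain ⟨W, hW, hdim⟩ := ih
      have hne : W ≠ ⊤ := fun e => hodd (by
        rw [e, finrank_top, Module.finrank_fintype_fun_eq_card] at hdim
        exact ⟨n, by omega⟩)
      obtain ⟨u, -, hu⟩ := SetLike.exists_of_lt hne.lt_top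
      set Wu := W ⊔ Submodule.span F {u}
      have hAu : A *ᵥ u ∉ Wu := by
        intro hm
        obtain ⟨w, hw, v, hv, hwv⟩ := Submodule.mem_sup.1 hm
        obtain ⟨c, rfl⟩ := Submodule.mem_span_singleton.1 hv
        have h1 := h u
        have h2 : (c * c - a * c - b) • u = a • w - A *ᵥ w - c • w := by
          rw [← hwv, mulVec_add, mulVec_smul, ← hwv] at h1
          linear_combination (norm := module) h1
        have h3 : (c * c - a * c - b) • u ∈ W := by
          rw [h2]; exact sub_mem (sub_mem (W.smul_mem _ hw) (hW w hw)) (W.smul_mem _ hw)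
        exact hu ((W.smul_mem_iff (hno c)).1 h3)
      refine ⟨Wu ⊔ Submodule.span F {A *ᵥ u}, ?_, ?_⟩
      · intro x hx
        obtain ⟨y, hy, v, hv, rfl⟩ := Submodule.mem_sup.1 hx
        obtain ⟨c, rfl⟩ := Submodule.mem_span_singleton.1 hv
        obtain ⟨w, hw, v', hv', rfl⟩ := Submodule.mem_sup.1 hy
        obtain ⟨d, rfl⟩ := Submodule.mem_span_singleton.1 hv'
        rw [mulVec_add, mulVec_add, mulVec_smul, mulVec_smul, h, smul_add, smul_smul, smul_smul]
        refine add_mem (add_mem (Submodule.mem_sup_left (Submodule.mem_sup_left (hW w hw)))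
          (Submodule.mem_sup_right (Submodule.smul_mem _ _ (Submodule.mem_span_singleton_self _)))) (add_mem ?_ ?_)
        · exact Submodule.mem_sup_right (Submodule.smul_mem _ _ (Submodule.mem_span_singleton_self _))
        · exact Submodule.mem_sup_left (Submodule.mem_sup_right
            (Submodule.smul_mem _ _ (Submodule.mem_span_singleton_self _)))
      · rw [Submodule.finrank_sup_span_singleton hAu, Submodule.finrank_sup_span_singleton hu, hdim]; omega
  obtain ⟨W, -, hdim⟩ := hstep (Fintype.card α + 1)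
  have := Submodule.finrank_le W
  rw [hdim, Module.finrank_fintype_fun_eq_card] at this
  omega

end Cfsg.Agent.Lib.TensorPowerMax.Roots
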