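import Mathlib.LinearAlgebra.Matrix.Kronecker
import Cfsg.Prelude.Def_GeometricClasses
import Cfsg.Agent.Lib.Subspaces.FormVec
import Cfsg.Agent.Lib.Linear.FusionPSL

/-!
Overgroups of `1 ⊗ SL` on a tensor product with an arbitrary index type for the first factor.
-/

set_option autoImplicit false
set_option linter.unusedSectionVars false
set_option linter.dupNamespace false

namespace Cfsg.Agent.Lib.TensorPowerMax.Side

open Matrix Kronecker
open Cfsg.Agent.Lib.Subspaces.Transvection Cfsg.Agent.Lib.Subspaces.FormVec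

variable {α : Type} [Fintype α] [DecidableEq α] {k : ℕ} {F : Type*} [Field F]

local notation "V1" => α → F
local notation "V2" => Fin k → F
local notation "A1" => Matrix α α F
local notation "Big" => Matrix (α × Fin k) (α × Fin k) F
local notation "G" => GL (α × Fin k) F

/-- `1 ⊗ (v φ)` and more generally `A ⊗ (v φ)`. -/
def el (A : Matrix α α F) (v φ : Fin k → F) :
    Matrix (α × Fin k) (α × Fin k) F := A ⊗ₖ vecMulVec v φ

/-- The contraction of a big matrix by a functional and a vector of the second factor. -/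
def blk (Gm : Matrix (α × Fin k) (α × Fin k) F) (ψ w : Fin k → F) : Matrix α α F :=
  fun i j => ∑ a : Fin k, ∑ b : Fin k, ψ a * Gm (i, a) (j, b) * w b

theorem el_apply (A : A1) (v φ : V2) (i j : α) (a b : Fin k) :
    el A v φ (i, a) (j, b) = A i j * (v a * φ b) := rfl

theorem el_mul (A B : A1) (v φ w ψ : V2) : el A v φ * el B w ψ = (φ ⬝ᵥ w) • el (A * B) v ψ := by
  rw [el, el, el, ← Matrix.mul_kronecker_mul, vecMulVec_mul_vecMulVec, vecMulVec_smul, kronecker_smul]

theorem el_sandwich (Gm : Big) (v ψ w φ : V2) :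
    el (1 : A1) v ψ * Gm * el 1 w φ = el (blk Gm ψ w) v φ := by
  ext ⟨i, a⟩ ⟨j, b⟩
  simp only [Matrix.mul_apply, el_apply, blk, Fintype.sum_prod_type, Matrix.one_apply, ite_mul, one_mul,
    zero_mul, Finset.sum_mul, mul_ite, mul_zero]
  simp only [Finset.sum_ite_irrel, Finset.sum_const_zero, Finset.sum_ite_eq, Finset.sum_ite_eq',
    Finset.mem_univ, if_true]
  rw [Finset.sum_comm]
  exact Finset.sum_congr rfl fun c _ => Finset.sum_congr rfl fun d _ => by ring

theorem el_inj {A B : A1} {v φ : V2} (hv : v ≠ 0) (hφ : φ ≠ 0) (h : el A v φ = el B v φ) : A = B := by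
  obtain ⟨a, ha⟩ := Function.ne_iff.1 hv
  obtain ⟨b, hb⟩ := Function.ne_iff.1 hφ
  ext i j
  have := congrFun (congrFun h (i, a)) (j, b)
  rw [el_apply, el_apply] at this
  exact mul_right_cancel₀ (mul_ne_zero ha hb) this

theorem el_zero_left (v φ : V2) : el (0 : A1) v φ = 0 := by rw [el, zero_kronecker]

theorem el_smul (c : F) (A : A1) (v φ : V2) : el (c • A) v φ = c • el A v φ := by rw [el, el, smul_kronecker]

theorem el_add (A B : A1) (v φ : V2) : el (A + B) v φ = el A v φ + el B v φ := by rw [el, el, el, add_kronecker]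

theorem el_vec_smul (c : F) (A : A1) (v φ : V2) : el A (c • v) φ = el (c • A) v φ := by
  rw [el, el, smul_vecMulVec, kronecker_smul, smul_kronecker]

theorem el_ax_smul (c : F) (A : A1) (v φ : V2) : el A v (c • φ) = el (c • A) v φ := by
  rw [el, el, vecMulVec_smul, kronecker_smul, smul_kronecker]

theorem kron_one_mul_el (N : Matrix (Fin k) (Fin k) F) (A : A1) (v φ : V2) :
    (1 : A1) ⊗ₖ N * el A v φ = el A (N *ᵥ v) φ := by
  rw [el, el, ← Matrix.mul_kronecker_mul, one_mul, mul_vecMulVec]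

theorem sum_kronecker_right {α : Type} (s : Finset α) (A : A1) (f : α → Matrix (Fin k) (Fin k) F) :
    A ⊗ₖ (∑ i ∈ s, f i) = ∑ i ∈ s, A ⊗ₖ f i := by
  classical
  induction s using Finset.induction_on with
  | empty => simp
  | insert a s ha ih => rw [Finset.sum_insert ha, Finset.sum_insert ha, kronecker_add, ih]

theorem sum_el_one : ∑ a : Fin k, el (1 : A1) (Pi.single a 1) (Pi.single a 1) = 1 := by
  rw [show (∑ a : Fin k, el (1 : A1) (Pi.single a 1) (Pi.single a 1)) =
      (1 : A1) ⊗ₖ ∑ a : Fin k, vecMulVec (Pi.single a (1 : F)) (Pi.single a 1) from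
    (sum_kronecker_right _ _ _).symm]
  have : (∑ a : Fin k, vecMulVec (Pi.single a (1 : F)) (Pi.single a 1)) = 1 := by
    ext b c
    simp only [Matrix.sum_apply, vecMulVec_apply, Pi.single_apply, Matrix.one_apply, ite_mul, one_mul,
      zero_mul, Finset.sum_ite_eq, Finset.mem_univ, if_true]
    simp [eq_comm]
  rw [this, one_kronecker_one]

/-- The group has an element `1 + X`. -/
def InM (M : Subgroup (GL (α × Fin k) F)) (X : Matrix (α × Fin k) (α × Fin k) F) : Prop :=
  ∃ g ∈ M, (g : Matrix (α × Fin k) (α × Fin k) F) = 1 + X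

variable {M : Subgroup (GL (α × Fin k) F)}

theorem InM.zero : InM M (0 : Big) := ⟨1, M.one_mem, by simp⟩

theorem InM.add {X Y : Big} (hX : InM M X) (hY : InM M Y) (h : X * Y = 0) : InM M (X + Y) := by
  obtain ⟨g, hg, hgX⟩ := hX
  obtain ⟨g', hg', hgY⟩ := hY
  refine ⟨g * g', M.mul_mem hg hg', ?_⟩
  rw [Units.val_mul, hgX, hgY, add_mul, one_mul, mul_add, mul_one, h, add_zero]
  abel

theorem inv_val {g : GL (α × Fin k) F} {X : Big} (hg : (g : Big) = 1 + X) (hX : X * X = 0) :
    ((g⁻¹ : GL (α × Fin k) F) : Big) = 1 - X :=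
  Units.inv_eq_of_mul_eq_one_right (by rw [hg, add_mul, mul_sub, mul_sub, hX, one_mul, one_mul, mul_one]; abel)

/-- The commutator. -/
theorem InM.comm {X Y : Big} (hX : InM M X) (hY : InM M Y) (hXX : X * X = 0) (hYY : Y * Y = 0)
    (hYX : Y * X = 0) : InM M (X * Y) := by
  obtain ⟨g, hg, hgX⟩ := hX
  obtain ⟨h, hh, hhY⟩ := hY
  refine ⟨g * h * g⁻¹ * h⁻¹, M.mul_mem (M.mul_mem (M.mul_mem hg hh) (M.inv_mem hg)) (M.inv_mem hh), ?_⟩
  have e1 : (1 + X) * (1 + Y) * (1 - X) = 1 + Y + X * Y := by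
    simp only [add_mul, mul_add, mul_sub, one_mul, mul_one, Matrix.mul_assoc, hXX, hYX, mul_zero]
    abel
  rw [Units.val_mul, Units.val_mul, Units.val_mul, inv_val hgX hXX, inv_val hhY hYY, hgX, hhY, e1]
  simp only [add_mul, mul_sub, one_mul, mul_one, Matrix.mul_assoc, hYY, mul_zero]
  abel

theorem InM.conj {X : Big} (hX : InM M X) {h : GL (α × Fin k) F} (hh : h ∈ M) :
    InM M ((h : Big) * X * ((h⁻¹ : GL (α × Fin k) F) : Big)) := by
  obtain ⟨g, hg, hgX⟩ := hX
  refine ⟨h * g * h⁻¹, M.mul_mem (M.mul_mem hh hg) (M.inv_mem hh), ?_⟩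
  rw [Units.val_mul, Units.val_mul, hgX, mul_add, mul_one, add_mul, ← Units.val_mul, mul_inv_cancel, Units.val_one]

/-- The Kronecker product of two invertible matrices. -/
def kronGL (a : GL α F) (b : GL (Fin k) F) : GL (α × Fin k) F where
  val := (a : A1) ⊗ₖ (b : Matrix (Fin k) (Fin k) F)
  inv := ((a⁻¹ : GL α F) : A1) ⊗ₖ ((b⁻¹ : GL (Fin k) F) : Matrix (Fin k) (Fin k) F)
  val_inv := by
    rw [← Matrix.mul_kronecker_mul, ← Units.val_mul, ← Units.val_mul, mul_inv_cancel, mul_inv_cancel,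
      Units.val_one, Units.val_one, one_kronecker_one]
  inv_val := by
    rw [← Matrix.mul_kronecker_mul, ← Units.val_mul, ← Units.val_mul, inv_mul_cancel, inv_mul_cancel,
      Units.val_one, Units.val_one, one_kronecker_one]

/-- A pure tensor. -/
def tens (u : α → F) (w : Fin k → F) : α × Fin k → F := fun p => u p.1 * w p.2

/-- Contraction of the second factor by a functional. -/
def ctr (φ : Fin k → F) (z : α × Fin k → F) : α → F := fun i => ∑ a : Fin k, φ a * z (i, a)

theorem kron_mulVec_tens (A : A1) (N : Matrix (Fin k) (Fin k) F) (u : V1) (w : V2) :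
    (A ⊗ₖ N) *ᵥ tens u w = tens (A *ᵥ u) (N *ᵥ w) := by
  ext ⟨i, a⟩
  simp only [mulVec, dotProduct, tens, kroneckerMap_apply, Fintype.sum_prod_type, Finset.sum_mul_sum]
  exact Finset.sum_congr rfl fun j _ => Finset.sum_congr rfl fun b _ => by ring

theorem el_mulVec (A : A1) (v φ : V2) (z : α × Fin k → F) :
    el A v φ *ᵥ z = tens (A *ᵥ ctr φ z) v := by
  ext ⟨i, a⟩
  simp only [mulVec, dotProduct, tens, ctr, el_apply, Fintype.sum_prod_type, Finset.sum_mul, Finset.mul_sum]
  exact Finset.sum_congr rfl fun j _ => Finset.sum_congr rfl fun b _ => by ring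

theorem ctr_tens (φ : V2) (u : V1) (w : V2) : ctr φ (tens u w) = (φ ⬝ᵥ w) • u := by
  ext i
  simp only [ctr, tens, dotProduct, Pi.smul_apply, smul_eq_mul, Finset.sum_mul]
  exact Finset.sum_congr rfl fun a _ => by ring

theorem ctr_mulVec_tens (Gm : Big) (φ v : V2) (u : V1) :
    ctr φ (Gm *ᵥ tens u v) = blk Gm φ v *ᵥ u := by
  ext i
  simp only [ctr, mulVec, dotProduct, tens, blk, Fintype.sum_prod_type, Finset.mul_sum, Finset.sum_mul]
  rw [Finset.sum_comm]
  exact Finset.sum_congr rfl fun j _ => Finset.sum_congr rfl fun a _ =>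
    Finset.sum_congr rfl fun b _ => by ring

/-- `g` carries the block of `v` to the block of `v'` by `C`. -/
def BlockTo (g : GL (α × Fin k) F) (v v' : Fin k → F) (C : Matrix α α F) : Prop :=
  ∀ ψ : Fin k → F, (g : Matrix (α × Fin k) (α × Fin k) F) * el 1 v ψ = el C v' ψ

theorem isUnit_of_inj [Nonempty α] {C : A1} (h : ∀ A : A1, C * A = 0 → A = 0) : IsUnit C := by
  rw [← Matrix.mulVec_injective_iff_isUnit]
  intro x y hxy
  by_contra hne
  have hz : C *ᵥ (x - y) = 0 := by rw [mulVec_sub, hxy, sub_self]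
  have h1 := h (vecMulVec (x - y) (fun _ => 1)) (by rw [mul_vecMulVec, hz, zero_vecMulVec])
  obtain ⟨i, hi⟩ := Function.ne_iff.1 (sub_ne_zero.2 hne)
  have := congrFun (congrFun h1 i) i
  simp [vecMulVec_apply] at this
  exact hi (by simpa using this)

theorem gl_cancel (g : G) {X Y : Big} (h : (g : Big) * X = Y) : X = ((g⁻¹ : G) : Big) * Y := by
  rw [← h, ← Matrix.mul_assoc, ← Units.val_mul, inv_mul_cancel, Units.val_one, Matrix.one_mul]

theorem el_ne_zero {A : A1} {v φ : V2} (hv : v ≠ 0) (hφ : φ ≠ 0) (hA : A ≠ 0) : el A v φ ≠ 0 :=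
  fun e => hA (el_inj hv hφ (e.trans (el_zero_left v φ).symm))

/-- The group contains `1 ⊗ SL`. -/
structure Side (M : Subgroup (GL (α × Fin k) F)) : Prop where
  mem : ∀ b : GL (Fin k) F, (b : Matrix (Fin k) (Fin k) F).det = 1 → kronGL 1 b ∈ M
  hk : 3 ≤ k
  hne : Nonempty α

/-- A block root element with a coefficient which is not scalar. -/
def Good (M : Subgroup (GL (α × Fin k) F)) : Prop :=
  ∃ (A : Matrix α α F) (v φ : Fin k → F), φ ⬝ᵥ v = 0 ∧ v ≠ 0 ∧ φ ≠ 0 ∧
    (∀ c : F, A ≠ c • 1) ∧ InM M (el A v φ)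

namespace Side

variable (S : Side M)
include S

omit S in
theorem exists_ne_orth {l : ℕ} (s : Fin l → V2) (h : l < k) : ∃ z : V2, z ≠ 0 ∧ ∀ i, z ⬝ᵥ s i = 0 := by
  obtain ⟨z, hz, hzs⟩ := exists_common_zero_not_mem (⊥ : Submodule F V2) s (by rw [finrank_bot, Fintype.card_fin]; omega)
  exact ⟨z, by simpa using hz, fun i => by rw [dotProduct_comm]; exact hzs i⟩

theorem hT (c : F) {v φ : V2} (h : φ ⬝ᵥ v = 0) : InM M (el (c • (1 : A1)) v φ) := by
  have h' : φ ⬝ᵥ (c • v) = 0 := by rw [dotProduct_smul, h, smul_zero]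
  refine ⟨kronGL 1 (tv (c • v) φ), S.mem _ (det_tv _ _), ?_⟩
  show (1 : A1) ⊗ₖ (tv (c • v) φ : Matrix (Fin k) (Fin k) F) = _
  rw [coe_tv h', kronecker_add, one_kronecker_one, el, smul_kronecker, ← kronecker_smul, ← smul_vecMulVec]

theorem hT1 {v φ : V2} (h : φ ⬝ᵥ v = 0) : InM M (el (1 : A1) v φ) := by
  have := S.hT 1 h
  rwa [one_smul] at this

omit S in
theorem el_sq (A B : A1) (v φ : V2) (h : φ ⬝ᵥ v = 0) : el A v φ * el B v φ = 0 := by
  rw [el_mul, h, zero_smul]

/-- Conjugation by a transvection of the second factor moves root pairs. -/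
theorem move {A : A1} {v φ v' φ' : V2} (h : φ ⬝ᵥ v = 0) (hv : v ≠ 0) (hφ : φ ≠ 0) (h' : φ' ⬝ᵥ v' = 0)
    (hv' : v' ≠ 0) (hφ' : φ' ≠ 0) (hA : InM M (el A v φ)) : InM M (el A v' φ') := by
  have hp : Cfsg.Agent.Lib.AutPSL.IsPair v φ := ⟨hv, hφ, h⟩
  have hp' : Cfsg.Agent.Lib.AutPSL.IsPair v' φ' := ⟨hv', hφ', h'⟩
  obtain ⟨s, hs⟩ := Cfsg.Agent.Lib.Linear.FusionPSL.exists_conj_pair (by have := S.hk; omega) hp hp'
  set b : GL (Fin k) F := Matrix.SpecialLinearGroup.toGL s
  have hb : kronGL (1 : GL α F) b ∈ M := by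
    exact S.mem _ (Matrix.SpecialLinearGroup.det_coe s)
  have := hA.conj hb
  convert this using 1
  have hs' := congrArg (fun x : Matrix.SpecialLinearGroup (Fin k) F => (x : Matrix (Fin k) (Fin k) F)) hs
  simp only [Matrix.SpecialLinearGroup.coe_mul, Cfsg.Agent.Lib.AutPSL.coe_tv hp.orth,
    Cfsg.Agent.Lib.AutPSL.coe_tv hp'.orth] at hs'
  have hone : (s : Matrix (Fin k) (Fin k) F) * ((s⁻¹ : Matrix.SpecialLinearGroup (Fin k) F) : Matrix (Fin k) (Fin k) F) = 1 := by
    rw [← Matrix.SpecialLinearGroup.coe_mul, mul_inv_cancel, Matrix.SpecialLinearGroup.coe_one]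
  rw [mul_add, mul_one, add_mul, hone, add_right_inj] at hs'
  show el A v' φ' = ((1 : A1) ⊗ₖ (s : Matrix (Fin k) (Fin k) F)) * (A ⊗ₖ vecMulVec v φ) *
    (((1 : GL α F)⁻¹ : GL α F) : A1) ⊗ₖ ((b⁻¹ : GL (Fin k) F) : Matrix (Fin k) (Fin k) F)
  have hbi : ((b⁻¹ : GL (Fin k) F) : Matrix (Fin k) (Fin k) F) =
      ((s⁻¹ : Matrix.SpecialLinearGroup (Fin k) F) : Matrix (Fin k) (Fin k) F) := rfl
  rw [inv_one, Units.val_one, hbi, ← Matrix.mul_kronecker_mul, ← Matrix.mul_kronecker_mul, one_mul, mul_one, hs']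
  rfl

theorem scalar_of (hG : ¬ Good M) {A : A1} {v φ : V2} (h : φ ⬝ᵥ v = 0) (hv : v ≠ 0) (hφ : φ ≠ 0)
    (hA : InM M (el A v φ)) : ∃ c : F, A = c • 1 := by
  by_contra hc
  push Not at hc
  exact hG ⟨A, v, φ, h, hv, hφ, hc, hA⟩

/-- Elements moving everything into one block are tensor root elements. -/
theorem image_block (hG : ¬ Good M) {X : Big} (hX : InM M X) {v ψ : V2} (hψ : ψ ⬝ᵥ v = 1)
    (h1 : el (1 : A1) v ψ * X = X) (h2 : X * el (1 : A1) v ψ = 0) : ∃ lam : V2, X = el 1 v lam := by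
  have hv : v ≠ 0 := fun e => by rw [e, dotProduct_zero] at hψ; exact zero_ne_one hψ
  have hXX : X * X = 0 := by
    calc X * X = X * el (1 : A1) v ψ * X := by rw [Matrix.mul_assoc, h1]
      _ = 0 := by rw [h2, Matrix.zero_mul]
  have key : ∀ w : V2, ∃ c : F, blk X ψ w = c • 1 := by
    intro w
    obtain ⟨φ, hφ0, hφ⟩ := exists_ne_orth ![v, w] (by have := S.hk; omega)
    have hφv : φ ⬝ᵥ v = 0 := hφ 0
    have hφw : φ ⬝ᵥ w = 0 := hφ 1
    have hYX : el (1 : A1) w φ * X = 0 := by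
      rw [← h1, ← Matrix.mul_assoc, el_mul, hφv, zero_smul, Matrix.zero_mul]
    have hc := hX.comm (S.hT1 hφw) hXX (el_sq _ _ _ _ hφw) hYX
    rw [show X * el (1 : A1) w φ = el (blk X ψ w) v φ by rw [← el_sandwich, h1]] at hc
    exact S.scalar_of hG hφv hv hφ0 hc
  choose c hc using key
  refine ⟨∑ a : Fin k, c (Pi.single a 1) • (Pi.single a 1 : V2), ?_⟩
  calc X = el (1 : A1) v ψ * X * ∑ a : Fin k, el (1 : A1) (Pi.single a 1) (Pi.single a 1) := by
        rw [sum_el_one, Matrix.mul_one, h1]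
    _ = ∑ a : Fin k, el (1 : A1) v (c (Pi.single a 1) • (Pi.single a 1 : V2)) := by
        rw [Matrix.mul_sum]
        exact Finset.sum_congr rfl fun a _ => by rw [el_sandwich, hc, el_ax_smul]
    _ = _ := by rw [el, vecMulVec_sum, sum_kronecker_right]; rfl
where
  vecMulVec_sum {v : V2} {f : Fin k → V2} :
      vecMulVec v (∑ a : Fin k, f a) = ∑ a : Fin k, vecMulVec v (f a) := by
    ext i j
    simp [vecMulVec_apply, Finset.sum_apply, Finset.mul_sum, Matrix.sum_apply]

/-- Elements killing one tensor hyperplane are tensor root elements. -/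
theorem kernel_block (hG : ¬ Good M) {X : Big} (hX : InM M X) {z φ : V2} (hz : φ ⬝ᵥ z = 1)
    (h1 : X * el (1 : A1) z φ = X) (h2 : el (1 : A1) z φ * X = 0) : ∃ c : V2, X = el 1 c φ := by
  have hφ : φ ≠ 0 := fun e => by rw [e, zero_dotProduct] at hz; exact zero_ne_one hz
  have hXX : X * X = 0 := by
    calc X * X = X * el (1 : A1) z φ * X := by rw [h1]
      _ = 0 := by rw [Matrix.mul_assoc, h2, Matrix.mul_zero]
  have key : ∀ ψ : V2, ∃ c : F, blk X ψ z = c • 1 := by
    intro ψ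
    obtain ⟨v, hv0, hv⟩ := exists_ne_orth ![φ, ψ] (by have := S.hk; omega)
    have hφv : φ ⬝ᵥ v = 0 := by rw [dotProduct_comm]; exact hv 0
    have hψv : ψ ⬝ᵥ v = 0 := by rw [dotProduct_comm]; exact hv 1
    have hXY : X * el (1 : A1) v ψ = 0 := by
      rw [← h1, Matrix.mul_assoc, el_mul, hφv, zero_smul, Matrix.mul_zero]
    have hc := (S.hT1 hψv).comm hX (el_sq _ _ _ _ hψv) hXX hXY
    rw [show el (1 : A1) v ψ * X = el (blk X ψ z) v φ by rw [← el_sandwich, Matrix.mul_assoc, h1]] at hc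
    exact S.scalar_of hG hφv hv0 hφ hc
  choose c hc using key
  refine ⟨∑ a : Fin k, c (Pi.single a 1) • (Pi.single a 1 : V2), ?_⟩
  calc X = (∑ a : Fin k, el (1 : A1) (Pi.single a 1) (Pi.single a 1)) * X * el (1 : A1) z φ := by
        rw [sum_el_one, Matrix.one_mul, h1]
    _ = ∑ a : Fin k, el (1 : A1) (c (Pi.single a 1) • (Pi.single a 1 : V2)) φ := by
        rw [Matrix.sum_mul, Matrix.sum_mul]
        exact Finset.sum_congr rfl fun a _ => by rw [el_sandwich, hc, el_vec_smul]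
    _ = _ := by rw [el, sum_vecMulVec, sum_kronecker_right]; rfl
where
  sum_vecMulVec {v : V2} {f : Fin k → V2} :
      vecMulVec (∑ a : Fin k, f a) v = ∑ a : Fin k, vecMulVec (f a) v := by
    ext i j
    simp [vecMulVec_apply, Finset.sum_apply, Finset.sum_mul, Matrix.sum_apply]

theorem mem_of_blockTo (hG : ¬ Good M) {g : G}
    (hconj : ∀ v φ : V2, φ ⬝ᵥ v = 0 → InM M ((g : Big) * el (1 : A1) v φ * ((g⁻¹ : G) : Big)))
    {v v' : V2} (hv : v ≠ 0) (hv' : v' ≠ 0) {C : A1} (hB : BlockTo g v v' C) :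
    ∃ (A : GL α F) (B : GL (Fin k) F), g = kronGL A B := by
  have hk := S.hk
  haveI := S.hne
  have hone : (1 : A1) ≠ 0 := one_ne_zero
  obtain ⟨ψ0, hψ0⟩ := exists_dot_eq_one hv
  obtain ⟨ψ', hψ'⟩ := exists_dot_eq_one hv'
  have hgA : ∀ (A : A1) (ψ : V2), (g : Big) * el A v ψ = el (C * A) v' ψ := fun A ψ => by
    have e : el A v ψ = el (1 : A1) v ψ0 * el A v ψ := by rw [el_mul, hψ0, one_smul, one_mul]
    rw [e, ← Matrix.mul_assoc, hB, el_mul, hψ0, one_smul]
  have hC : IsUnit C := isUnit_of_inj fun A hA => by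
    have h1 := hgA A ψ0
    rw [hA, el_zero_left] at h1
    have h2 := gl_cancel g h1
    rw [Matrix.mul_zero] at h2
    exact el_inj hv (fun e => by rw [e, zero_dotProduct] at hψ0; exact zero_ne_one hψ0)
      (h2.trans (el_zero_left _ _).symm)
  obtain ⟨Cu, rfl⟩ := hC
  set C' : A1 := ((Cu⁻¹ : GL α F) : A1)
  have hCC : (Cu : A1) * C' = 1 := by rw [← Units.val_mul, mul_inv_cancel, Units.val_one]
  have hC'C : C' * (Cu : A1) = 1 := by rw [← Units.val_mul, inv_mul_cancel, Units.val_one]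
  have hginv : ∀ ψ, ((g⁻¹ : G) : Big) * el (1 : A1) v' ψ = el C' v ψ := fun ψ => by
    rw [gl_cancel g (hgA C' ψ), hCC]
  have hcol : ∀ w : V2, ∃ c : V2, ∀ ψ : V2, (g : Big) * el (1 : A1) w ψ = el (Cu : A1) c ψ := by
    intro w
    obtain ⟨φ, hφ0, hφ⟩ := exists_ne_orth ![v, w] (by omega)
    have hφv : φ ⬝ᵥ v = 0 := hφ 0
    have hφw : φ ⬝ᵥ w = 0 := hφ 1
    obtain ⟨φ', hX⟩ := S.image_block hG (hconj _ _ hφv) hψ'
      (by rw [hB, ← Matrix.mul_assoc, el_mul, hψ', one_smul, one_mul])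
      (by rw [Matrix.mul_assoc, hginv, Matrix.mul_assoc, el_mul, hφv, zero_smul, Matrix.mul_zero])
    have hX' : el (Cu : A1) v' φ * ((g⁻¹ : G) : Big) = el 1 v' φ' := by rw [← hB, hX]
    have hφ'0 : φ' ≠ 0 := fun e => by
      rw [e, show el (1 : A1) v' 0 = 0 by rw [el, vecMulVec_zero, kronecker_zero]] at hX
      have h1 := congrArg (fun Z => ((g⁻¹ : G) : Big) * Z * (g : Big)) hX
      simp only [← Matrix.mul_assoc, ← Units.val_mul, inv_mul_cancel, Units.val_one, Matrix.one_mul,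
        Matrix.mul_zero, Matrix.zero_mul] at h1
      rw [Matrix.mul_assoc, ← Units.val_mul, inv_mul_cancel, Units.val_one, Matrix.mul_one] at h1
      exact el_ne_zero hv hφ0 hone h1
    obtain ⟨z, hz⟩ := exists_dot_eq_one hφ'0
    rw [dotProduct_comm] at hz
    have key1 : el (1 : A1) w φ * ((g⁻¹ : G) : Big) = el C' w φ' := by
      have h1 := congrArg (fun Z => el C' w ψ' * Z) hX'
      simp only [← Matrix.mul_assoc, el_mul, hψ', one_smul, hC'C, mul_one] at h1
      exact h1
    have key2 : el (1 : A1) z φ' * (g : Big) = el (Cu : A1) z φ := by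
      have h0 : el (1 : A1) v' φ' * (g : Big) = el (Cu : A1) v' φ := by
        rw [← hX', Matrix.mul_assoc, ← Units.val_mul, inv_mul_cancel, Units.val_one, Matrix.mul_one]
      have h1 := congrArg (fun Z => el (1 : A1) z ψ' * Z) h0
      simp only [← Matrix.mul_assoc, el_mul, hψ', one_smul, one_mul] at h1
      exact h1
    have hY := hconj _ _ hφw
    rw [Matrix.mul_assoc, key1] at hY
    obtain ⟨c, hc⟩ := S.kernel_block hG hY hz
      (by rw [Matrix.mul_assoc, el_mul, hz, one_smul, mul_one])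
      (by rw [← Matrix.mul_assoc, key2, el_mul, hφw, zero_smul])
    refine ⟨c, fun ψ => ?_⟩
    have h1 := congrArg (fun Z => Z * el (Cu : A1) z ψ) hc
    simp only [Matrix.mul_assoc, el_mul, hz, one_smul, hC'C, one_mul] at h1
    exact h1
  choose c hc using hcol
  set N : Matrix (Fin k) (Fin k) F := ∑ a : Fin k, vecMulVec (c (Pi.single a 1)) (Pi.single a 1)
  have hgN : (g : Big) = (Cu : A1) ⊗ₖ N := by
    calc (g : Big) = (g : Big) * ∑ a : Fin k, el (1 : A1) (Pi.single a 1) (Pi.single a 1) := by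
          rw [sum_el_one, Matrix.mul_one]
      _ = ∑ a : Fin k, el (Cu : A1) (c (Pi.single a 1)) (Pi.single a 1) := by
          rw [Matrix.mul_sum]; exact Finset.sum_congr rfl fun a _ => hc _ _
      _ = _ := (sum_kronecker_right _ _ _).symm
  have hN : N.det ≠ 0 := fun h0 => by
    refine GeneralLinearGroup.det_ne_zero g ?_
    rw [hgN, det_kronecker, h0, zero_pow, mul_zero]
    exact Fintype.card_ne_zero
  exact ⟨Cu, GeneralLinearGroup.mkOfDetNeZero N hN, Units.ext hgN⟩

/-- The coefficient algebra. -/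
def alg : Subalgebra F A1 :=
    { carrier := {A | ∀ v φ : V2, φ ⬝ᵥ v = 0 → InM M (el A v φ)}
      add_mem' := fun {A B} hA hB v φ h => by
        rw [el_add]; exact (hA v φ h).add (hB v φ h) (el_sq _ _ _ _ h)
      mul_mem' := fun {A B} hA hB v φ h => by
        by_cases hv : v = 0
        · rw [el, hv, zero_vecMulVec, kronecker_zero]; exact InM.zero
        by_cases hφ : φ = 0
        · rw [el, hφ, vecMulVec_zero, kronecker_zero]; exact InM.zero
        obtain ⟨w, hw, hwφ⟩ := exists_common_zero_not_mem (Submodule.span F {v}) ![φ] (by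
          have : Module.finrank F (Submodule.span F {v}) ≤ 1 := (finrank_span_le_card _).trans (by simp)
          have := S.hk; rw [Fintype.card_fin]; omega)
        have hφw : φ ⬝ᵥ w = 0 := hwφ 0
        obtain ⟨ψ, hψ, hψw⟩ := exists_functional hw
        have hψv : ψ ⬝ᵥ v = 0 := hψ v (Submodule.mem_span_singleton_self v)
        have hc := (hA v ψ hψv).comm (hB w φ hφw) (el_sq _ _ _ _ hψv) (el_sq _ _ _ _ hφw)
          (by rw [el_mul, h, zero_smul])
        rwa [el_mul, hψw, one_smul] at hc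
      algebraMap_mem' := fun c v φ h => by rw [Algebra.algebraMap_eq_smul_one]; exact S.hT c h }

theorem mem_alg_of {A : A1} {v₀ φ₀ : V2} (h0 : φ₀ ⬝ᵥ v₀ = 0) (hv0 : v₀ ≠ 0) (hφ0 : φ₀ ≠ 0)
    (hA : InM M (el A v₀ φ₀)) : A ∈ S.alg := fun v φ h => by
  by_cases hv : v = 0
  · rw [el, hv, zero_vecMulVec, kronecker_zero]; exact InM.zero
  by_cases hφ : φ = 0
  · rw [el, hφ, vecMulVec_zero, kronecker_zero]; exact InM.zero
  exact S.move h0 hv0 hφ0 h hv hφ hA

theorem specialLinear_le (htop : S.alg = ⊤) : Cfsg.Geo.specialLinear (α × Fin k) F ≤ M := by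
  classical
  have hall : ∀ (A : A1) (v φ : V2), φ ⬝ᵥ v = 0 → InM M (el A v φ) := fun A v φ h =>
    (htop ▸ Algebra.mem_top : A ∈ S.alg) v φ h
  -- elementary transvections
  have hel : ∀ (i j : α) (a b : Fin k), (i, a) ≠ (j, b) → ∀ c : F,
      InM M (vecMulVec (Pi.single (i, a) c) (Pi.single (j, b) 1)) := by
    intro i j a b hne c
    have hform : ∀ (i j : α) (a b : Fin k) (c : F),
        el (vecMulVec (Pi.single i c) (Pi.single j 1) : A1) (Pi.single a (1 : F)) (Pi.single b 1) =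
          vecMulVec (Pi.single (i, a) c) (Pi.single (j, b) 1) := by
      intro i j a b c
      ext ⟨x, y⟩ ⟨x', y'⟩
      simp only [el_apply, vecMulVec_apply, Pi.single_apply, Prod.mk.injEq]
      split_ifs <;> simp_all
    by_cases hab : a = b
    · subst hab
      obtain ⟨l, hl⟩ : ∃ l : Fin k, l ≠ a :=
        Fintype.exists_ne_of_one_lt_card (by rw [Fintype.card_fin]; have := S.hk; omega) a
      have hij : i ≠ j := fun e => hne (by rw [e])
      have hc := (hall (vecMulVec (Pi.single i c) (Pi.single i 1)) (Pi.single a 1) (Pi.single l 1) (by simp [hl])).comm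
        (hall (vecMulVec (Pi.single i (1 : F)) (Pi.single j 1)) (Pi.single l 1) (Pi.single a 1) (by simp [hl.symm]))
        (el_sq _ _ _ _ (by simp [hl])) (el_sq _ _ _ _ (by simp [hl.symm]))
        (by rw [el_mul, vecMulVec_mul_vecMulVec]; simp [hij.symm, el_zero_left])
      rwa [el_mul, vecMulVec_mul_vecMulVec, dotProduct_single, Pi.single_eq_same, mul_one, one_smul,
        dotProduct_single, Pi.single_eq_same, mul_one, one_smul, hform] at hc
    · rw [← hform]
      exact hall _ _ _ (by simp [Ne.symm hab])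
  refine specialLinear_le_of_fullCenter fun w => (mem_fullCenters (M := M)).1 ?_
  rw [← Finset.univ_sum_single w]
  refine sum_mem fun l _ => ?_
  have hfull : FullCenter M (Pi.single l (1 : F)) := by
    intro φ hφ
    have hφl : φ l = 0 := by simpa using hφ
    let P : AddSubmonoid (α × Fin k → F) :=
      { carrier := {ψ | ψ l = 0 ∧ tv (Pi.single l 1) ψ ∈ M}
        zero_mem' := ⟨rfl, by rw [tv_zero_right]; exact M.one_mem⟩
        add_mem' := fun {a b} ha hb => ⟨by simp [ha.1, hb.1], by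
          rw [← tv_mul_center (by simp [ha.1]) (by simp [hb.1])]; exact M.mul_mem ha.2 hb.2⟩ }
    have hmem : φ ∈ P := by
      rw [← Finset.univ_sum_single φ]
      refine sum_mem fun y _ => ?_
      rcases eq_or_ne y l with rfl | hy
      · rw [hφl, Pi.single_zero]; exact P.zero_mem
      · have horth : (Pi.single y (φ y) : α × Fin k → F) ⬝ᵥ Pi.single l 1 = 0 := by simp [hy.symm]
        refine ⟨by simp [hy.symm], ?_⟩
        obtain ⟨g, hg, hgX⟩ := hel l.1 y.1 l.2 y.2 (by simpa using hy.symm) (φ y)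
        convert hg using 1
        refine Units.ext ?_
        rw [coe_tv horth, hgX]
        congr 1
        ext p q
        simp only [vecMulVec_apply, Pi.single_apply]
        split_ifs <;> simp
    exact hmem.2
  have := (fullCenters M).smul_mem (w l) ((mem_fullCenters (M := M)).2 hfull)
  rwa [← Pi.single_smul, smul_eq_mul, mul_one] at this


end Side
end Cfsg.Agent.Lib.TensorPowerMax.Side
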