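import Cfsg.Agent.Lib.TensorPowerMax.AlgTop

/-!
A group containing the one-factor special linear groups, seen with one factor split off, and the full case:
a root element with a non-scalar coefficient gives the special linear group.
-/

set_option autoImplicit false
set_option linter.unusedSectionVars false

namespace Cfsg.Agent.Lib.TensorPowerMax.Split

open Matrix Kronecker
open Cfsg.Agent.Lib.Subspaces.Transvection Cfsg.Agent.Lib.Subspaces.FormVec
  Cfsg.Agent.Lib.TensorPowerMax.Basic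

variable {ι : Type} [Fintype ι] [DecidableEq ι] {m : ℕ} {F : Type*} [Field F]

local notation "A1" => Matrix (Fin m) (Fin m) F
local notation "Big" => Matrix (ι → Fin m) (ι → Fin m) F
local notation "GG" => GL (ι → Fin m) F
local notation "W1" => Fin m → F

/-- The hypotheses on the group. -/
structure Setting (M : Subgroup (GL (ι → Fin m) F)) : Prop where
  one : ∀ (j : ι) (b : GL (Fin m) F), (b : Matrix (Fin m) (Fin m) F).det = 1 → oneGL j b ∈ M
  perm : Fintype.card ι = 2 ∨ ∀ σ : Equiv.Perm ι, ∃ a : ι → GL (Fin m) F, ptGL a * pmGL σ ∈ M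
  hm : 3 ≤ m
  hι : 2 ≤ Fintype.card ι

/-- The group with the factor `j` split off. -/
def Mj (M : Subgroup (GL (ι → Fin m) F)) (j : ι) :
    Subgroup (GL (({i // i ≠ j} → Fin m) × Fin m) F) := M.map (spU j).toMonoidHom

/-- The group has a root element with a coefficient which is not scalar. -/
def Good (M : Subgroup (GL (ι → Fin m) F)) : Prop := ∃ j, Side.Good (Mj M j)

/-- The group has an element `1 + X`. -/
def InM (M : Subgroup (GL (ι → Fin m) F)) (X : Matrix (ι → Fin m) (ι → Fin m) F) : Prop :=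
  ∃ g ∈ M, (g : Matrix (ι → Fin m) (ι → Fin m) F) = 1 + X

variable {M : Subgroup (GL (ι → Fin m) F)}

theorem spU_mem_iff (j : ι) (g : GG) : spU j g ∈ Mj M j ↔ g ∈ M := by
  refine ⟨?_, fun h => ⟨g, h, rfl⟩⟩
  rintro ⟨h, hh, he⟩
  rwa [← (spU j).injective he]

theorem InM.side {X : Big} (h : InM M X) (j : ι) : Side.InM (Mj M j) (sp j X) := by
  obtain ⟨g, hg, hgX⟩ := h
  exact ⟨spU j g, (spU_mem_iff j g).2 hg, by rw [coe_spU, hgX, map_add, map_one]⟩

theorem InM.conj {X : Big} (hX : InM M X) {h : GG} (hh : h ∈ M) :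
    InM M ((h : Big) * X * ((h⁻¹ : GG) : Big)) := by
  obtain ⟨g, hg, hgX⟩ := hX
  refine ⟨h * g * h⁻¹, M.mul_mem (M.mul_mem hh hg) (M.inv_mem hh), ?_⟩
  rw [Units.val_mul, Units.val_mul, hgX, mul_add, mul_one, add_mul, ← Units.val_mul, mul_inv_cancel, Units.val_one]

theorem sp_inv (j : ι) (g : GG) :
    sp j ((g⁻¹ : GG) : Big) = (((spU j g)⁻¹ : GL (({i // i ≠ j} → Fin m) × Fin m) F)).val := by
  rw [← map_inv]; rfl

theorem spU_oneGL_self (j : ι) (b : GL (Fin m) F) :
    spU j (oneGL j b) = Side.kronGL (1 : GL ({i // i ≠ j} → Fin m) F) b :=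
  Units.ext (by rw [coe_spU, coe_oneGL, sp_oneM_self]; rfl)

theorem spU_oneGL_ne {j i : ι} (h : i ≠ j) (b : GL (Fin m) F) :
    spU j (oneGL i b) = Side.kronGL (oneGL (⟨i, h⟩ : {i // i ≠ j}) b) (1 : GL (Fin m) F) :=
  Units.ext (by
    rw [coe_spU, coe_oneGL, sp_oneM_of_ne h]
    show _ = (oneGL (⟨i, h⟩ : {i // i ≠ j}) b).val ⊗ₖ _
    rw [coe_oneGL]; rfl)

theorem fix_iff {j : ι} {σ : Equiv.Perm ι} (h : σ j = j) : ∀ i, i ≠ j ↔ σ i ≠ j := fun i =>
  not_congr ⟨fun e => by rw [e, h], fun e => σ.injective (e.trans h.symm)⟩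

/-- The restriction of a permutation fixing `j`. -/
def restrict {j : ι} (σ : Equiv.Perm ι) (h : σ j = j) : Equiv.Perm {i // i ≠ j} :=
  σ.subtypePerm fun i => (fix_iff h i).symm

theorem spU_tw {j : ι} (a : ι → GL (Fin m) F) (σ : Equiv.Perm ι) (h : σ j = j) :
    spU j (ptGL a * pmGL σ) =
      Side.kronGL (ptGL (fun i : {i // i ≠ j} => a i.1) * pmGL (restrict σ h)) (a j) :=
  Units.ext (by
    rw [coe_spU, Units.val_mul, map_mul, coe_ptGL, coe_pmGL, sp_pt, sp_pm j σ (fix_iff h),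
      ← Matrix.mul_kronecker_mul, mul_one]
    rfl)

theorem tw_conj_oneM (a : ι → GL (Fin m) F) (σ : Equiv.Perm ι) (i : ι) (D : A1) :
    ((ptGL a * pmGL σ : GG) : Big) * oneM i D * (((ptGL a * pmGL σ)⁻¹ : GG) : Big) =
      oneM (σ i) ((a (σ i) : A1) * D * (((a (σ i))⁻¹ : GL (Fin m) F) : A1)) := by
  rw [_root_.mul_inv_rev, Units.val_mul, Units.val_mul, coe_pmGL, coe_ptGL, mul_assoc (pt _), pm_mul_oneM,
    ← map_inv ptGL, ← map_inv pmGL, coe_ptGL, coe_pmGL]
  simp only [mul_assoc]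
  rw [← mul_assoc (pm σ), pm_mul, mul_inv_cancel, pm_one, one_mul, oneM, pt_mul, pt_mul, oneM]
  congr 1
  ext1 k
  by_cases hk : k = σ i
  · subst hk; simp [mul_assoc]
  · simp [Function.update_of_ne hk]

namespace Setting

variable (S : Setting M)
include S

theorem side (j : ι) : Side.Side (Mj M j) where
  mem b hb := by rw [← spU_oneGL_self]; exact (spU_mem_iff j _).2 (S.one j b hb)
  hk := S.hm
  hne := ⟨fun _ => ⟨0, by have := S.hm; omega⟩⟩

theorem rootIn {j : ι} {v φ : W1} (h : φ ⬝ᵥ v = 0) : InM M (oneM j (vecMulVec v φ)) :=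
  ⟨oneGL j (tv v φ), S.one j _ (det_tv _ _), by rw [coe_oneGL, coe_tv h, oneM_add, oneM_one]⟩

theorem alg_conj (j : ι) {C : GL ({i // i ≠ j} → Fin m) F} {b : GL (Fin m) F}
    (hC : Side.kronGL C b ∈ Mj M j) {A : Matrix ({i // i ≠ j} → Fin m) ({i // i ≠ j} → Fin m) F}
    (hA : A ∈ (S.side j).alg) :
    (C : Matrix ({i // i ≠ j} → Fin m) ({i // i ≠ j} → Fin m) F) * A *
      ((C⁻¹ : GL ({i // i ≠ j} → Fin m) F) : Matrix ({i // i ≠ j} → Fin m) ({i // i ≠ j} → Fin m) F) ∈
        (S.side j).alg := by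
  intro v φ h
  have h' : (φ ᵥ* (b : A1)) ⬝ᵥ (((b⁻¹ : GL (Fin m) F) : A1) *ᵥ v) = 0 := by
    rw [← dotProduct_mulVec, gl_mulVec_inv]; exact h
  have := (hA _ _ h').conj hC
  convert this using 1
  show _ = ((C : Matrix _ _ F) ⊗ₖ (b : A1)) * (A ⊗ₖ vecMulVec _ _) * (((C⁻¹ : GL _ F) : Matrix _ _ F) ⊗ₖ _)
  rw [← Matrix.mul_kronecker_mul, ← Matrix.mul_kronecker_mul, mul_vecMulVec, vecMulVec_mul, gl_mulVec_inv,
    vecMul_vecMul, ← Units.val_mul, mul_inv_cancel, Units.val_one, vecMul_one]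
  rfl

theorem alg_top (j : ι) {A₀ : Matrix ({i // i ≠ j} → Fin m) ({i // i ≠ j} → Fin m) F}
    (hA₀ : A₀ ∈ (S.side j).alg) (hns : ∀ z : F, A₀ ≠ z • 1) : (S.side j).alg = ⊤ := by
  refine AlgTop.eq_top (S.side j).alg (fun i c d hcd A hA => ?_) S.hm (fun i i' h D => ?_) hA₀ hns
  · have hsingle : vecMulVec (Pi.single c (1 : F)) (Pi.single d 1) = Matrix.single c d 1 := by
      ext x y
      by_cases hx : x = c <;> by_cases hy : y = d <;>
        simp [vecMulVec_apply, Matrix.single_apply, Pi.single_apply, hx, hy, Ne.symm, eq_comm]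
    have horth : (Pi.single d 1 : W1) ⬝ᵥ Pi.single c 1 = 0 := by simp [hcd]
    have hmem : Side.kronGL (oneGL i (tv (Pi.single c (1 : F)) (Pi.single d 1))) (1 : GL (Fin m) F) ∈ Mj M j := by
      rw [← spU_oneGL_ne i.2]
      exact (spU_mem_iff j _).2 (S.one _ _ (det_tv _ _))
    have := S.alg_conj j hmem hA
    convert this using 1
    rw [show (oneGL i (tv (Pi.single c (1 : F)) (Pi.single d 1)))⁻¹ =
        oneGL i (tv (Pi.single c 1) (-Pi.single d 1)) by
      rw [← tv_inv horth, oneGL, oneGL, ← map_inv, Pi.inv_def]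
      congr 1
      ext1 k
      by_cases hk : k = i <;> simp [Function.update_apply, hk],
      coe_oneGL, coe_oneGL, coe_tv horth, coe_tv (by rw [neg_dotProduct, horth, neg_zero]), oneM_add, oneM_one,
      vecMulVec_neg, oneM_add, oneM_one, hsingle, ← neg_one_smul F (Matrix.single c d (1 : F)), oneM_smul,
      neg_one_smul, ← sub_eq_add_neg]
    rfl
  · by_cases hii : i = i'
    · rw [← hii]; exact h D
    rcases S.perm with h2 | hp
    · exfalso
      have h1 : Fintype.card {k // k ≠ j} = 1 := by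
        rw [Fintype.card_subtype_compl, Fintype.card_subtype_eq, h2]
      have := Fintype.card_le_one_iff.1 h1.le i i'
      exact hii this
    obtain ⟨a, ha⟩ := hp (Equiv.swap i.1 i'.1)
    have hfix : Equiv.swap i.1 i'.1 j = j := Equiv.swap_apply_of_ne_of_ne i.2.symm i'.2.symm
    have hmem := (spU_mem_iff j _).2 ha
    rw [spU_tw a _ hfix] at hmem
    have := S.alg_conj j hmem (h (((a i'.1)⁻¹ : GL (Fin m) F).val * D * (a i'.1).val))
    rw [tw_conj_oneM] at this
    have hi : restrict (Equiv.swap i.1 i'.1) hfix i = i' := Subtype.ext (Equiv.swap_apply_left i.1 i'.1)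
    rw [hi] at this
    convert this using 2
    simp only [← mul_assoc, ← Units.val_mul, mul_inv_cancel, Units.val_one, one_mul]
    rw [mul_assoc, ← Units.val_mul, mul_inv_cancel, Units.val_one, mul_one]

theorem specialLinear_le (hG : Good M) : Cfsg.Geo.specialLinear (ι → Fin m) F ≤ M := by
  obtain ⟨j, A₀, v, φ, h, hv, hφ, hns, hA⟩ := hG
  have htop := S.alg_top j ((S.side j).mem_alg_of h hv hφ hA) hns
  intro g hg
  refine (spU_mem_iff j g).1 ((S.side j).specialLinear_le htop ?_)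
  rw [mem_specialLinear_iff] at hg ⊢
  rw [coe_spU]
  exact (Matrix.det_reindexAlgEquiv F F (split j) (g : Big)).trans hg

end Setting

end Cfsg.Agent.Lib.TensorPowerMax.Split
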